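import Groth.Agent.Lib.ComplFormalH7.FreeLevels
import Groth.Agent.Lib.FormalExtH7.IdealMap

/-!
# Divisibility on stalks for sheaves of modules
-/

set_option autoImplicit false
set_option linter.style.haveILetI false
set_option backward.isDefEq.respectTransparency false
set_option backward.isDefEq.respectTransparency.types false

universe u

open CategoryTheory CategoryTheory.Limits AlgebraicGeometry Opposite

noncomputable section

namespace Groth.Agent.NFlatFormalH7

open Groth.Agent Groth.Agent.GExistH7 Groth.Agent.FormalH7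
open Groth.Agent.ComplFormalH7 (PU tR tR_map_smul sm tildeR_exact)

section general

variable {A : Type u} [CommRing A] {X : Scheme.{u}} [X.Over (Spec (CommRingCat.of A))]

/-- Local isomorphisms give isomorphisms of stalks which commute with scalars. -/
theorem exists_stalk_iso_of_restrict {G P : X.Modules} (V : X.Opens) (e : G.restrict V.ι ≅ P.restrict V.ι) {x : X}
    (hx : x ∈ V) :
    ∃ θ : (M1.stalkAb x).obj G ≅ (M1.stalkAb x).obj P, ∀ (c : A) (w : (M1.stalkAb x).obj G),
      θ.hom (sm G c x w) = sm P c x (θ.hom w) := by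
  let y : (V : Scheme.{u}) := ⟨x, hx⟩
  let ν := Scheme.Modules.restrictStalkNatIso V.ι y
  let n : ∀ M : X.Modules, (M1.stalkAb y).obj (M.restrict V.ι) ≅ (M1.stalkAb x).obj M := fun M => ν.app M
  have hn : ∀ {M M' : X.Modules} (φ : M ⟶ M'),
      (M1.stalkAb y).map ((Scheme.Modules.restrictFunctor V.ι).map φ) ≫ (n M').hom = (n M).hom ≫ (M1.stalkAb x).map φ :=
    fun φ => ν.hom.naturality φ
  let θ : (M1.stalkAb x).obj G ≅ (M1.stalkAb x).obj P := (n G).symm ≪≫ (M1.stalkAb y).mapIso e ≪≫ n P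
  have hcomm : ∀ c : A, (M1.stalkAb x).map (Formal.smulMod A G c) ≫ θ.hom =
      θ.hom ≫ (M1.stalkAb x).map (Formal.smulMod A P c) := fun c => by
    have h1 : (Scheme.Modules.restrictFunctor V.ι).map (Formal.smulMod A G c) ≫ e.hom =
        e.hom ≫ (Scheme.Modules.restrictFunctor V.ι).map (Formal.smulMod A P c) := by
      rw [show Formal.smulMod A G c = Formal.smulModΓ G _ from rfl,
        show Formal.smulMod A P c = Formal.smulModΓ P _ from rfl,
        PunctFree27.restrict_map_smulModΓ, PunctFree27.restrict_map_smulModΓ]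
      refine Scheme.Modules.hom_ext _ _ fun U => ?_
      ext s
      exact e.hom.app_smul _ s
    simp only [θ, Iso.trans_hom, Iso.symm_hom, Functor.mapIso_hom, Category.assoc]
    rw [← cancel_epi (n G).hom, ← Category.assoc (n G).hom, ← hn (Formal.smulMod A G c), Category.assoc, Iso.hom_inv_id_assoc,
      Iso.hom_inv_id_assoc, ← hn (Formal.smulMod A P c), ← Functor.map_comp_assoc, h1, Functor.map_comp_assoc]
  exact ⟨θ, fun c w => ConcreteCategory.congr_hom (hcomm c) w⟩

/-- Relations among `a` map into multiples of `τ` under `e`, at a stalk. -/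
def IsDiv {r m : ℕ} (a e : Fin r → A) (τ : Fin m → A) (P : X.Modules) (x : X) : Prop :=
  ∀ z : Fin r → (M1.stalkAb x).obj P, ∑ j, sm P (a j) x (z j) = 0 →
    ∃ w : Fin m → (M1.stalkAb x).obj P, ∑ j, sm P (e j) x (z j) = ∑ l, sm P (τ l) x (w l)

theorem stalk_hom_sum {M N : AddCommGrpCat.{u}} {ι : Type*} (s : Finset ι) (f : ι → (M ⟶ N)) (z : M) :
    (∑ i ∈ s, f i : M ⟶ N) z = ∑ i ∈ s, f i z := by
  classical
  induction s using Finset.induction_on with
  | empty => rfl
  | insert i s hi ih => rw [Finset.sum_insert hi, Finset.sum_insert hi, ← ih]; rfl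

theorem isDiv_of_restrict {r m : ℕ} {a e : Fin r → A} {τ : Fin m → A} {G P : X.Modules} (V : X.Opens)
    (i : G.restrict V.ι ≅ P.restrict V.ι) {x : X} (hx : x ∈ V) (hP : IsDiv a e τ P x) : IsDiv a e τ G x := by
  obtain ⟨θ, hθ⟩ := exists_stalk_iso_of_restrict (A := A) V i hx
  intro z hz
  obtain ⟨w, hw⟩ := hP (fun j => θ.hom (z j)) (by
    simp only [← hθ, ← map_sum, hz, map_zero])
  refine ⟨fun l => θ.inv (w l), θ.addCommGroupIsoToAddEquiv.injective ?_⟩
  show θ.hom _ = θ.hom _
  simp only [map_sum, hθ, Iso.inv_hom_id_apply]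
  exact hw

end general

variable {A : Type u} [CommRing A] {I : Ideal A}

/-- Divisibility for the sheaf of a module follows from divisibility in the module. -/
theorem isDiv_tR {r m : ℕ} (a e : Fin r → A) (τ : Fin m → A) (L : ModuleCat.{u} (CommRingCat.of A))
    (h : ∀ c : Fin r → L, ∑ j, a j • c j = 0 → ∃ w : Fin m → L, ∑ j, e j • c j = ∑ l, τ l • w l) (x : PU I) :
    IsDiv a e τ ((tR I).obj L) x := by
  classical
  haveI : (tR I).Additive := by
    haveI : PreservesFiniteLimits (tilde.functor (CommRingCat.of A)) := M1.tilde_preservesFiniteLimits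
    haveI : Functor.Additive (tilde.functor (CommRingCat.of A)) := Functor.additive_of_preserves_binary_products _
    infer_instance
  let S := tR I ⋙ M1.stalkAb x
  haveI : S.Additive := inferInstance
  let pr : ∀ {k : ℕ} (_ : Fin k), ModuleCat.of A (Fin k → L) ⟶ L := fun j => ModuleCat.ofHom (LinearMap.proj j)
  let inj : ∀ {k : ℕ} (_ : Fin k), L ⟶ ModuleCat.of A (Fin k → L) := fun j =>
    ModuleCat.ofHom (LinearMap.single A (fun _ => L) j)
  let μ : A → (L ⟶ L) := fun c => ModuleCat.ofHom (c • LinearMap.id : L →ₗ[A] L)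
  let comb : ∀ {k : ℕ} (_ : Fin k → A), ModuleCat.of A (Fin k → L) ⟶ L := fun b => ∑ j, pr j ≫ μ (b j)
  have hcomb : ∀ {k : ℕ} (b : Fin k → A) (Z : S.obj (ModuleCat.of A (Fin k → L))),
      S.map (comb b) Z = ∑ j, sm ((tR I).obj L) (b j) x (S.map (pr j) Z) := by
    intro k b Z
    simp only [comb]
    rw [S.map_sum, stalk_hom_sum]
    refine Finset.sum_congr rfl fun j _ => ?_
    rw [Functor.map_comp, ConcreteCategory.comp_apply]
    show (M1.stalkAb x).map ((tR I).map (μ (b j))) _ = _
    rw [tR_map_smul]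
  have happ : ∀ {k : ℕ} (b : Fin k → A) (c : Fin k → L), comb b c = ∑ j, b j • c j := fun b c => by
    show (∑ j, pr j ≫ μ (b j)).hom c = _
    rw [ModuleCat.hom_sum, LinearMap.sum_apply]
    rfl
  intro z hz
  let Z : S.obj (ModuleCat.of A (Fin r → L)) := ∑ j, S.map (inj j) (z j)
  have hZ : ∀ j, S.map (pr j) Z = z j := fun j => by
    rw [map_sum, Finset.sum_eq_single j (fun i _ hi => ?_) (fun h => absurd (Finset.mem_univ j) h)]
    · rw [← ConcreteCategory.comp_apply, ← S.map_comp, show inj j ≫ pr j = 𝟙 L from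
        ModuleCat.hom_ext (LinearMap.ext fun y => Pi.single_eq_same (M := fun _ : Fin r => L) j y),
        CategoryTheory.Functor.map_id]
      rfl
    · rw [← ConcreteCategory.comp_apply, ← S.map_comp, show inj i ≫ pr j = 0 from
        ModuleCat.hom_ext (LinearMap.ext fun y => Pi.single_eq_of_ne (M := fun _ : Fin r => L) hi.symm y), Functor.map_zero]
      rfl
  let K : ModuleCat.{u} (CommRingCat.of A) := ModuleCat.of A (LinearMap.ker (comb a).hom)
  let κ : K ⟶ ModuleCat.of A (Fin r → L) := ModuleCat.ofHom (LinearMap.ker (comb a).hom).subtype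
  let T₁ := ShortComplex.mk κ (comb a) (ModuleCat.hom_ext (LinearMap.ext fun y => y.2))
  have hT₁ : T₁.Exact := (ShortComplex.moduleCat_exact_iff _).2 fun y hy => ⟨⟨y, hy⟩, rfl⟩
  obtain ⟨v₁, hv₁⟩ := tildeR_exact (R := CommRingCat.of A) (LocCoh.puncturedOpen A I) T₁ hT₁
  let C : ModuleCat.{u} (CommRingCat.of A) := ModuleCat.of A (L ⧸ LinearMap.range (comb τ).hom)
  let q : L ⟶ C := ModuleCat.ofHom (LinearMap.range (comb τ).hom).mkQ
  let T₂ := ShortComplex.mk (comb τ) q (ModuleCat.hom_ext (LinearMap.ext fun y =>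
    (Submodule.Quotient.mk_eq_zero _).2 (LinearMap.mem_range_self _ y)))
  have hT₂ : T₂.Exact := (ShortComplex.moduleCat_exact_iff _).2 fun y hy =>
    (Submodule.Quotient.mk_eq_zero _).1 hy
  obtain ⟨v₂, hv₂⟩ := tildeR_exact (R := CommRingCat.of A) (LocCoh.puncturedOpen A I) T₂ hT₂
  have hκ : κ ≫ comb e ≫ q = 0 := ModuleCat.hom_ext (LinearMap.ext fun y => by
    refine (Submodule.Quotient.mk_eq_zero _).2 ?_
    obtain ⟨w, hw⟩ := h (y : Fin r → L) ((happ a _).symm.trans y.2)
    exact ⟨w, ((happ τ w).trans hw.symm).trans (happ e _).symm⟩)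
  obtain ⟨y, hy⟩ := (M1.exact_iff_stalk_eq_zero _).1 hv₁ x Z (by
    show S.map (comb a) Z = 0
    rw [hcomb]
    simp only [hZ]
    exact hz)
  obtain ⟨W, hW⟩ := (M1.exact_iff_stalk_eq_zero _).1 hv₂ x (S.map (comb e) Z) (by
    show S.map q (S.map (comb e) Z) = 0
    rw [show Z = S.map κ y from hy.symm, ← ConcreteCategory.comp_apply, ← ConcreteCategory.comp_apply,
      ← S.map_comp, ← S.map_comp, hκ, Functor.map_zero]
    rfl)
  refine ⟨fun l => S.map (pr l) W, ?_⟩
  rw [← hcomb τ W]
  refine Eq.trans ?_ hW.symm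
  rw [hcomb]
  simp only [hZ]

/-- Divisibility for sheaves of free modules over a quotient. -/
theorem isDiv_free {r m k : ℕ} (a e : Fin r → A) (τ : Fin m → A) (L : Ideal A)
    (h : ∀ c : Fin r → A, ∑ j, a j * c j ∈ L → ∑ j, e j * c j ∈ Ideal.span (Set.range τ)) (x : PU I) :
    IsDiv a e τ ((tR I).obj (ModuleCat.of A (Fin k → A ⧸ L))) x := by
  refine isDiv_tR a e τ _ (fun c hc => ?_) x
  choose cl hcl using fun (j : Fin r) (l : Fin k) => Submodule.Quotient.mk_surjective L (c j l)
  have hmem : ∀ l, ∑ j, a j * cl j l ∈ L := fun l => by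
    rw [← Submodule.Quotient.mk_eq_zero L, ← Submodule.mkQ_apply, map_sum]
    refine Eq.trans ?_ (congrFun hc l)
    rw [Finset.sum_apply]
    exact Finset.sum_congr rfl fun j _ => by
      rw [← smul_eq_mul, map_smul, Submodule.mkQ_apply, hcl]
      rfl
  choose w hw using fun l => Submodule.mem_span_range_iff_exists_fun A |>.1 (h _ (hmem l))
  refine ⟨fun i l => L.mkQ (w l i), funext fun l => ?_⟩
  rw [Finset.sum_apply, Finset.sum_apply]
  refine Eq.trans ?_ (show L.mkQ (∑ j, e j * cl j l) = _ from ?_)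
  · rw [map_sum]
    exact Finset.sum_congr rfl fun j _ => by
      rw [← smul_eq_mul, map_smul, Submodule.mkQ_apply, hcl]
      rfl
  · rw [← hw l, map_sum]
    exact Finset.sum_congr rfl fun i _ => by rw [smul_eq_mul, mul_comm, ← smul_eq_mul, map_smul]; rfl

end Groth.Agent.NFlatFormalH7
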