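import Groth.Agent.Lib.NFlatFormalH7.Stable
import Groth.Agent.Lib.NFlatFormalH7.Local
import Mathlib.RingTheory.Flat.EquationalCriterion

/-!
# Locally free systems along an ideal with flat graded pieces are split
-/

set_option autoImplicit false
set_option linter.style.haveILetI false
set_option backward.isDefEq.respectTransparency false
set_option backward.isDefEq.respectTransparency.types false

universe u

open CategoryTheory CategoryTheory.Limits AlgebraicGeometry Opposite

noncomputable section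

namespace Groth.Agent.NFlatFormalH7

open Groth.Agent Groth.Agent.GExistH7 Groth.Agent.FormalH7
open Groth.Agent.ComplFormalH7 (PU tR sm sm_natural)

attribute [local instance] HasFiniteBiproducts.of_hasFiniteProducts

variable {A : Type u} [CommRing A] {J : Ideal A}

/-- Flat graded pieces split the generators. -/
theorem exists_coeffs [IsNoetherianRing A] (n : ℕ)
    [Module.Flat (A ⧸ J) (↥(J ^ n) ⧸ (J • (⊤ : Submodule A ↥(J ^ n))))] :
    ∃ (r : ℕ) (a : Fin r → ↥(J ^ n)) (e : Fin r → Fin r → A), Submodule.span A (Set.range a) = ⊤ ∧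
      (∀ j, ((a j : A) - ∑ i, e i j * (a i : A)) ∈ J ^ (n + 1)) ∧
      ∀ i, ∀ c : Fin r → A, ∑ j, (a j : A) * c j ∈ J ^ (n + 1) → ∑ j, e i j * c j ∈ J := by
  let N := ↥(J ^ n) ⧸ (J • (⊤ : Submodule A ↥(J ^ n)))
  haveI : IsNoetherian A ↥(J ^ n) := inferInstance
  haveI : Module.Finite (A ⧸ J) N := Module.Finite.of_restrictScalars_finite A (A ⧸ J) N
  haveI : Module.FinitePresentation (A ⧸ J) N := Module.finitePresentation_of_finite _ _
  haveI : Module.Projective (A ⧸ J) N := Module.Flat.projective_of_finitePresentation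
  obtain ⟨r, a, ha⟩ := Module.Finite.exists_fin (R := A) (M := ↥(J ^ n))
  let cl : ↥(J ^ n) →ₗ[A] N := Submodule.mkQ _
  let π : (Fin r → A ⧸ J) →ₗ[A ⧸ J] N := Fintype.linearCombination (A ⧸ J) fun j => cl (a j)
  have hπ : Function.Surjective π := fun y => by
    obtain ⟨y, rfl⟩ := Submodule.mkQ_surjective _ y
    obtain ⟨c, rfl⟩ := Submodule.mem_span_range_iff_exists_fun A |>.1 (ha.symm ▸ trivial : y ∈ Submodule.span A (Set.range a))
    refine ⟨fun j => Ideal.Quotient.mk J (c j), ?_⟩
    rw [Fintype.linearCombination_apply, map_sum]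
    exact Finset.sum_congr rfl fun j _ => (map_smul cl (c j) (a j)).symm
  obtain ⟨ψ, hψ⟩ := Module.projective_lifting_property π LinearMap.id hπ
  choose e he using fun i j => Ideal.Quotient.mk_surjective (I := J) (ψ (cl (a j)) i)
  have hz : ∀ x : ↥(J ^ n), cl x = 0 ↔ (x : A) ∈ J ^ (n + 1) := fun x => by
    rw [Submodule.mkQ_apply, Submodule.Quotient.mk_eq_zero, Submodule.mem_smul_top_iff, smul_eq_mul, ← pow_succ']
  refine ⟨r, a, e, ha, fun j => ?_, fun i c hc => ?_⟩
  · have h1 : π (ψ (cl (a j))) = cl (a j) := LinearMap.congr_fun hψ _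
    rw [Fintype.linearCombination_apply] at h1
    have h2 : cl (a j - ∑ i, e i j • a i) = 0 := by
      rw [map_sub, map_sum, sub_eq_zero]
      refine h1.symm.trans (Finset.sum_congr rfl fun i _ => ?_)
      rw [map_smul, ← he i j]
      rfl
    have h3 := (hz _).1 h2
    simpa using h3
  · have h1 : cl (∑ j, c j • a j) = 0 := (hz _).2 (by simpa [mul_comm] using hc)
    have h2 : ψ (cl (∑ j, c j • a j)) i = ∑ j, Ideal.Quotient.mk J (c j) * ψ (cl (a j)) i := by
      rw [map_sum, map_sum, Finset.sum_apply]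
      refine Finset.sum_congr rfl fun j _ => ?_
      rw [map_smul, show c j • cl (a j) = Ideal.Quotient.mk J (c j) • cl (a j) from rfl, map_smul]
      rfl
    rw [h1, map_zero, Pi.zero_apply] at h2
    rw [← Ideal.Quotient.eq_zero_iff_mem, map_sum, h2]
    exact Finset.sum_congr rfl fun j _ => by rw [map_mul, he, mul_comm]

section

variable {X : Scheme.{u}}

theorem eq_zero_of_stalk {M N : X.Modules} (φ : M ⟶ N) (h : ∀ x z, (M1.stalkAb x).map φ z = 0) : φ = 0 := by
  haveI : Epi (kernel.ι φ) := (M1.epi_iff_stalk _).2 fun x z =>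
    (M1.exact_iff_stalk_eq_zero _).1 (ShortComplex.exact_kernel φ) x z (h x z)
  rw [← cancel_epi (kernel.ι φ), kernel.condition, comp_zero]

variable [X.Over (Spec (CommRingCat.of A))] {G : ℕᵒᵖ ⥤ X.Modules} (hG : IsSys J G)

set_option maxHeartbeats 800000 in
/-- Splitting from local divisibility. -/
theorem isSplit_of_isDiv
    (h : ∀ n, ∃ (r : ℕ) (a : Fin r → ↥(J ^ (n + 1))) (e : Fin r → Fin r → A) (m : ℕ) (τ : Fin m → A),
      Submodule.span A (Set.range a) = ⊤ ∧ (∀ j, ((a j : A) - ∑ i, e i j * (a i : A)) ∈ J ^ (n + 2)) ∧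
      (∀ l, τ l ∈ J) ∧ ∀ i x, IsDiv (fun j => (a j : A)) (e i) τ (G.obj (op (n + 1))) x) : IsSplit hG := by
  intro n
  obtain ⟨r, a, e, m, τ, hspan, he, hτ, hdiv⟩ := h n
  let Gn := G.obj (op (n + 1))
  let g := gm G (Nat.le_succ n)
  let g0 : Gn ⟶ G.obj (op 0) := gm G (Nat.zero_le (n + 1))
  let pr : ∀ _ : Fin r, (⨁ fun _ : Fin r => Gn) ⟶ Gn := biproduct.π _
  let b : (⨁ fun _ : Fin r => Gn) ⟶ Gn := ∑ j, pr j ≫ Formal.smulMod A Gn (a j : A)
  have hb : b ≫ g = 0 := by
    rw [Preadditive.sum_comp]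
    exact Finset.sum_eq_zero fun j _ => by
      rw [Category.assoc, (hG.quot_gm (Nat.le_succ n)).smul _ (a j).2, comp_zero]
  let q : (⨁ fun _ : Fin r => Gn) ⟶ kernel g := kernel.lift g b hb
  haveI : Epi g := (hG.quot_gm _).epi
  have hSexact : (ShortComplex.mk b g hb).Exact := by
    apply ShortComplex.exact_of_g_is_cokernel
    refine CokernelCofork.IsColimit.ofπ' _ _ fun {T} φ hφ => ?_
    have hk : ∀ c : A, c ∈ J ^ (n + 1) → Formal.smulMod A Gn c ≫ φ = 0 := by
      intro c hc
      obtain ⟨v, hv⟩ := Submodule.mem_span_range_iff_exists_fun A |>.1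
        (hspan.symm ▸ trivial : (⟨c, hc⟩ : ↥(J ^ (n + 1))) ∈ Submodule.span A (Set.range a))
      have hv' : c = ∑ j, v j * (a j : A) := by
        have := congrArg Subtype.val hv
        simpa using this.symm
      have hj : ∀ j, Formal.smulMod A Gn (a j : A) ≫ φ = 0 := fun j => by
        have := congrArg (biproduct.ι (fun _ : Fin r => Gn) j ≫ ·) hφ
        simp only [b, Preadditive.sum_comp, Preadditive.comp_sum, comp_zero, Category.assoc] at this
        rw [Finset.sum_eq_single j (fun i _ hi => by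
          rw [biproduct.ι_π_ne_assoc _ hi.symm, zero_comp]) (fun h => absurd (Finset.mem_univ j) h)] at this
        rwa [biproduct.ι_π_self_assoc] at this
      rw [hv', FormalExtH7.smulMod_sum, Preadditive.sum_comp]
      exact Finset.sum_eq_zero fun j _ => by
        rw [FormalH7.smulMod_mul, Category.assoc]
        rw [smulMod_naturality φ (v j), ← Category.assoc, hj j, zero_comp]
    exact ⟨((hG.quot_gm (Nat.le_succ n)).desc φ hk).choose, ((hG.quot_gm (Nat.le_succ n)).desc φ hk).choose_spec⟩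
  haveI : Epi q := hSexact.epi_kernelLift
  let ψ : Fin r → ((⨁ fun _ : Fin r => Gn) ⟶ G.obj (op 0)) := fun i =>
    ∑ j, pr j ≫ Formal.smulMod A Gn (e i j) ≫ g0
  have hψ : ∀ i, kernel.ι q ≫ ψ i = 0 := fun i => eq_zero_of_stalk _ fun x u => by
    rw [Functor.map_comp, ConcreteCategory.comp_apply]
    let Z := (M1.stalkAb x).map (kernel.ι q) u
    show (M1.stalkAb x).map (ψ i) Z = 0
    obtain ⟨w, hw⟩ := hdiv i x (fun j => (M1.stalkAb x).map (pr j) Z) (by
      have h0 : (M1.stalkAb x).map b Z = 0 := by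
        show (M1.stalkAb x).map b ((M1.stalkAb x).map (kernel.ι q) u) = 0
        rw [← ConcreteCategory.comp_apply, ← Functor.map_comp, show kernel.ι q ≫ b = 0 by
          rw [← kernel.lift_ι g b hb, ← Category.assoc]
          erw [kernel.condition, zero_comp], Functor.map_zero]
        rfl
      refine Eq.trans ?_ h0
      simp only [b]
      rw [Functor.map_sum, stalk_hom_sum]
      exact Finset.sum_congr rfl fun j _ => by rw [Functor.map_comp]; rfl)
    have h1 : (M1.stalkAb x).map (ψ i) Z =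
        (M1.stalkAb x).map g0 (∑ j, sm Gn (e i j) x ((M1.stalkAb x).map (pr j) Z)) := by
      simp only [ψ]
      rw [Functor.map_sum, stalk_hom_sum, map_sum]
      exact Finset.sum_congr rfl fun j _ => by rw [Functor.map_comp, Functor.map_comp]; rfl
    rw [h1, hw, map_sum]
    refine Finset.sum_eq_zero fun l _ => ?_
    rw [sm_natural, sm, hG.killed 0 (τ l) (by rw [zero_add, pow_one]; exact hτ l), Functor.map_zero]
    rfl
  refine ⟨r, a, fun i => Abelian.epiDesc q (ψ i) (hψ i), ?_⟩
  rw [← cancel_epi q, Preadditive.comp_sum, kernel.lift_ι]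
  have hterm : ∀ i, q ≫ Abelian.epiDesc q (ψ i) (hψ i) ≫ jm hG (Nat.zero_le (n + 1)) (le_refl (n + 1)) (a i) =
      ∑ j, pr j ≫ Formal.smulMod A Gn (e i j * (a i : A)) := fun i => by
    rw [← Category.assoc, Abelian.comp_epiDesc]
    simp only [ψ, Preadditive.sum_comp, Category.assoc]
    refine Finset.sum_congr rfl fun j _ => ?_
    rw [gm_jm, ← FormalH7.smulMod_mul]
    first | rfl | rw [mul_comm]
  rw [Finset.sum_congr rfl fun i _ => hterm i, Finset.sum_comm]
  refine Finset.sum_congr rfl fun j _ => ?_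
  rw [← Preadditive.comp_sum, ← FormalExtH7.smulMod_sum]
  congr 1
  have h0 := hG.killed (n + 1) _ (he j)
  conv_rhs => rw [← sub_add_cancel (a j : A) (∑ i, e i j * (a i : A)), GExistH7.smulMod_add, h0, zero_add]

end

/-- Locally free systems along an ideal with flat graded pieces are split. -/
theorem isSplit_of_flat [IsNoetherianRing A] {I : Ideal A} {G : ℕᵒᵖ ⥤ (PU I).Modules} (hG : IsSys J G)
    (hflat : ∀ n : ℕ, Module.Flat (A ⧸ J) (↥(J ^ n) ⧸ (J • (⊤ : Submodule A ↥(J ^ n)))))
    (hloc : ∀ n (x : PU I), ∃ (V : (PU I).Opens) (k : ℕ), x ∈ V ∧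
      Nonempty ((G.obj (op n)).restrict V.ι ≅
        ((tR I).obj (ModuleCat.of A (Fin k → A ⧸ J ^ (n + 1)))).restrict V.ι)) : IsSplit hG := by
  refine isSplit_of_isDiv hG fun n => ?_
  haveI := hflat (n + 1)
  obtain ⟨r, a, e, hspan, he, hdiv⟩ := exists_coeffs (J := J) (n + 1)
  obtain ⟨m, τ, hτ⟩ := Submodule.fg_iff_exists_fin_generating_family.1 (IsNoetherian.noetherian J)
  refine ⟨r, a, e, m, τ, hspan, he, fun l => hτ ▸ Submodule.subset_span (Set.mem_range_self l), fun i x => ?_⟩
  obtain ⟨V, k, hx, ⟨θ⟩⟩ := hloc (n + 1) x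
  exact isDiv_of_restrict V θ hx (isDiv_free _ _ _ _ (fun c hc => hτ.symm.le (hdiv i c hc)) x)

end Groth.Agent.NFlatFormalH7
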