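import Groth.Agent.Lib.NFlatFormalH7.Algebraize
import Groth.Agent.Lib.ComplFormalH7.Bridge
import Groth.Agent.Lib.ComplFormalH7.FreeLevels
import Groth.Agent.Lib.NFlatFormalH7.Split
import Groth.Agent.Lib.ModM1.Push
import Groth.Prelude.Def_LefX

/-!
# Local models of locally free levels on punctured affine schemes
-/

set_option autoImplicit false
set_option linter.style.haveILetI false
set_option backward.isDefEq.respectTransparency false
set_option backward.isDefEq.respectTransparency.types false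

universe u

open CategoryTheory CategoryTheory.Limits AlgebraicGeometry Opposite

noncomputable section

namespace Groth.Agent.NFlatFormalH7

open Groth.Agent Groth.Agent.GExistH7 Groth.Agent.FormalH7
open Groth.Agent.ComplFormalH7 (PU tR tR_map_smul tildeR_exact tildeR_epi freeTR isQuot_iso_comp)

variable {A : Type u} [CommRing A] [IsNoetherianRing A] {I : Ideal A}

/-- The sheaf of `M ⧸ L M` is the quotient of the sheaf of `M`. -/
theorem isQuot_tR (L : Ideal A) (M C : ModuleCat.{u} (CommRingCat.of A)) (π : M ⟶ C) (hπ : Function.Surjective π)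
    (hker : LinearMap.ker π.hom = L • (⊤ : Submodule A M)) : IsQuot L ((tR I).map π) := by
  haveI : Functor.PreservesZeroMorphisms (tR I) := inferInstanceAs
    (Functor.PreservesZeroMorphisms (tilde.functor (CommRingCat.of A) ⋙ Scheme.Modules.restrictFunctor _))
  haveI : Epi π := (ModuleCat.epi_iff_surjective _).2 hπ
  haveI : Epi ((tR I).map π) := tildeR_epi (R := CommRingCat.of A) _ π
  refine ⟨inferInstance, fun a ha => ?_, fun {T} φ hφ => ?_⟩
  · rw [← tR_map_smul, ← Functor.map_comp,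
      show (ModuleCat.ofHom (a • LinearMap.id : M →ₗ[A] M) : M ⟶ M) ≫ π = 0 from ModuleCat.hom_ext (LinearMap.ext fun x =>
        LinearMap.mem_ker.1 (hker.symm.le (Submodule.smul_mem_smul ha trivial))), Functor.map_zero]
  · let ι : ModuleCat.of (CommRingCat.of A) (L • ⊤ : Submodule A M) ⟶ M :=
      ModuleCat.ofHom ((L • ⊤ : Submodule A M).subtype)
    let S := ShortComplex.mk ι π (ModuleCat.hom_ext (LinearMap.ext fun x => LinearMap.mem_ker.1 (hker.symm.le x.2)))
    have hS : S.Exact := (ShortComplex.moduleCat_exact_iff _).2 fun x hx => ⟨⟨x, hker.le (LinearMap.mem_ker.2 hx)⟩, rfl⟩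
    obtain ⟨w, hw⟩ := tildeR_exact (R := CommRingCat.of A) (LocCoh.puncturedOpen A I) S hS
    haveI : Epi (ShortComplex.mk _ _ w).g := inferInstanceAs (Epi ((tR I).map π))
    exact ⟨hw.desc φ (tR_incl_comp L M φ hφ), hw.g_desc φ _⟩

/-- The free module over a quotient is the quotient of the free module. -/
theorem isQuot_tR_free (L : Ideal A) (r : ℕ) :
    IsQuot L ((tR I).map (ModuleCat.ofHom (LinearMap.pi fun i => L.mkQ ∘ₗ LinearMap.proj i :
      (Fin r → A) →ₗ[A] (Fin r → A ⧸ L)) : ModuleCat.of A (Fin r → A) ⟶ ModuleCat.of A (Fin r → A ⧸ L))) := by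
  refine isQuot_tR L _ _ _ (fun y => ⟨fun i => Quotient.out (y i), funext fun i => Quotient.out_eq (y i)⟩) ?_
  classical
  refine le_antisymm (fun x hx => ?_) (Submodule.smul_le.2 fun a ha y _ => funext fun i => ?_)
  · have hxi : ∀ i, x i ∈ L := fun i => (Submodule.Quotient.mk_eq_zero _).1 (congrFun hx i)
    show (x : Fin r → A) ∈ L • (⊤ : Submodule A (Fin r → A))
    rw [show (x : Fin r → A) = ∑ i, x i • Pi.single (M := fun _ => A) i 1 from pi_eq_sum_univ' (R := A) x]
    exact Submodule.sum_mem _ fun i _ => Submodule.smul_mem_smul (hxi i) trivial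
  · exact (Submodule.Quotient.mk_eq_zero _).2 (L.mul_mem_right _ ha)

variable {J : Ideal A}

/-- Local models of modules locally free over a neighbourhood. -/
theorem exists_model_of_isFinLocFreeMod (n : ℕ) {G : (PU I).Modules}
    (h : Formal2.IsFinLocFreeMod J (n + 1) G) (x : PU I) :
    ∃ (V : (PU I).Opens) (k : ℕ), x ∈ V ∧ Nonempty (G.restrict V.ι ≅
      ((tR I).obj (ModuleCat.of A (Fin k → A ⧸ J ^ (n + 1)))).restrict V.ι) := by
  obtain ⟨V, r, hx, ⟨e⟩⟩ := h x
  obtain ⟨e', -⟩ := (isQuot_iso_comp (isQuot_modPowπ J (n + 1) (FlatMod.freeMod (PU I) r)) (freeTR r)).exists_iso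
    (isQuot_tR_free (J ^ (n + 1)) r)
  exact ⟨V, r, hx, ⟨e ≪≫ (Scheme.Modules.restrictFunctor V.ι).mapIso e'⟩⟩

/-- Modules on a scheme without points are zero. -/
theorem isZero_of_isEmpty {Y : Scheme.{u}} [IsEmpty Y] (M : Y.Modules) : IsZero M :=
  (IsZero.iff_id_eq_zero M).2 (eq_zero_of_stalk _ fun x => isEmptyElim x)

/-- Local models of levelwise locally free systems. -/
theorem exists_model_of_levelwise (𝓘 : (PU I).IdealSheafData)
    (h𝓘 : 𝓘 = (FSch.idealSpec A J).comap (PU I ↘ Spec (CommRingCat.of A)))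
    (𝔐 : FSch.ModSys (FSch.completionAlong (PU I) 𝓘)) (hfree : LefX.LevelwiseFinLocFree 𝔐) (n : ℕ) (x : PU I) :
    ∃ (V : (PU I).Opens) (k : ℕ), x ∈ V ∧ Nonempty ((pushL 𝓘 𝔐 n).restrict V.ι ≅
      ((tR I).obj (ModuleCat.of A (Fin k → A ⧸ J ^ (n + 1)))).restrict V.ι) := by
  haveI := PunctFree27.quasiCompact_puncturedOpen I (IsNoetherian.noetherian I)
  haveI : IsLocallyNoetherian (PU I) := LocallyOfFiniteType.isLocallyNoetherian (LocCoh.puncturedOpen A I).ι
  let q := FSch.completionToX (PU I) 𝓘 n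
  haveI : IsClosedImmersion q := inferInstance
  obtain ⟨V, k, hxV, ⟨e⟩⟩ : ∃ (V : (PU I).Opens) (k : ℕ), x ∈ V ∧
      Nonempty ((𝔐.F n).restrict (q ⁻¹ᵁ V).ι ≅ FlatMod.freeMod (q ⁻¹ᵁ V : Scheme.{u}) k) := by
    by_cases hx : x ∈ Set.range q
    · obtain ⟨y, rfl⟩ := hx
      obtain ⟨U, k, hy, he⟩ := hfree n y
      obtain ⟨W, hW, hWU⟩ := (q.isClosedEmbedding.isInducing.isOpen_iff).1 U.2
      refine ⟨⟨W, hW⟩, k, ?_, ?_⟩
      · show y ∈ q ⁻¹' W
        rw [hWU]
        exact hy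
      · rw [show q ⁻¹ᵁ ⟨W, hW⟩ = U from TopologicalSpace.Opens.ext hWU]
        exact he
    · refine ⟨⟨(Set.range q)ᶜ, q.isClosedEmbedding.isClosed_range.isOpen_compl⟩, 0, hx, ?_⟩
      haveI : IsEmpty ((q ⁻¹ᵁ ⟨(Set.range q)ᶜ, q.isClosedEmbedding.isClosed_range.isOpen_compl⟩ : Scheme.Opens _) : Scheme.{u}) :=
        ⟨fun y => y.2 ⟨_, rfl⟩⟩
      exact ⟨(isZero_of_isEmpty _).iso (isZero_of_isEmpty _)⟩
  let M : (PU I).Modules := (tR I).obj (ModuleCat.of A (Fin k → A))
  have hM : Coh.IsCoh M := by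
    haveI : Module.FinitePresentation A (Fin k → A) := Module.finitePresentation_of_finite _ _
    exact DPerf.isCoh_restrict ((M1.isCoh_iff_isFP _).2
      (M1.isFP_tilde (R := CommRingCat.of A) (ModuleCat.of A (Fin k → A)))) _
  have hu := isQuot_unitLvl J 𝓘 h𝓘 (FormalH7.isFormal_isAdic_completionAlong (PU I) 𝓘).1 hM n
  obtain ⟨e', -⟩ := hu.exists_iso (isQuot_tR_free (J ^ (n + 1)) k)
  have hP : IsPullback (q ∣_ V) (q ⁻¹ᵁ V).ι V.ι q := isPullback_morphismRestrict q V
  let eM : ((Scheme.Modules.pullback q).obj M).restrict (q ⁻¹ᵁ V).ι ≅ FlatMod.freeMod (q ⁻¹ᵁ V : Scheme.{u}) k :=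
    (Scheme.Modules.restrictFunctor (q ⁻¹ᵁ V).ι).mapIso
      ((Scheme.Modules.pullback q).mapIso (freeTR k) ≪≫ M2.freeModPullbackIso q k) ≪≫
      M2.freeModRestrictIso _ k
  exact ⟨V, k, hxV, ⟨M1.pushRestrictIso hP (𝔐.F n) ≪≫
    (Scheme.Modules.pushforward (q ∣_ V)).mapIso (e ≪≫ eM.symm) ≪≫
    (M1.pushRestrictIso hP ((Scheme.Modules.pullback q).obj M)).symm ≪≫
    (Scheme.Modules.restrictFunctor V.ι).mapIso e'⟩⟩

end Groth.Agent.NFlatFormalH7
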