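import Groth.Agent.Lib.NFlatFormalH7.Families
import Groth.Agent.Lib.ComplFormalH7.Algebraize

/-!
# Algebraization of systems with split graded pieces on punctured affine schemes
-/

set_option autoImplicit false
set_option linter.style.haveILetI false
set_option backward.isDefEq.respectTransparency false
set_option backward.isDefEq.respectTransparency.types false

universe u

open CategoryTheory CategoryTheory.Limits AlgebraicGeometry Opposite

noncomputable section

namespace Groth.Agent.NFlatFormalH7

open Groth.Agent Groth.Agent.GExistH7 Groth.Agent.FormalH7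
open Groth.Agent.ComplFormalH7 (PU secF Sn gs famMod evn gs_evn e0L tR tR_map_smul epsR isIso_epsR tildeR_exact tildeR_epi)

variable {A : Type u} [CommRing A] {I J : Ideal A}

/-- Maps killed by an ideal kill the submodule it generates. -/
theorem tR_incl_comp [IsNoetherianRing A] (L : Ideal A) (M : ModuleCat.{u} (CommRingCat.of A)) {T : (PU I).Modules}
    (φ : (tR I).obj M ⟶ T) (hφ : ∀ a ∈ L, Formal.smulMod A ((tR I).obj M) a ≫ φ = 0) :
    (tR I).map (ModuleCat.ofHom ((L • ⊤ : Submodule A M).subtype) : ModuleCat.of _ _ ⟶ M) ≫ φ = 0 := by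
  haveI : (tR I).Additive := by
    haveI : PreservesFiniteLimits (tilde.functor (CommRingCat.of A)) := M1.tilde_preservesFiniteLimits
    haveI : Functor.Additive (tilde.functor (CommRingCat.of A)) := Functor.additive_of_preserves_binary_products _
    infer_instance
  obtain ⟨k, cs, hcs⟩ := Submodule.fg_iff_exists_fin_generating_family.1 (IsNoetherian.noetherian L)
  let P : ModuleCat.{u} (CommRingCat.of A) := ModuleCat.of A (Fin k → M)
  let π : (Fin k → M) →ₗ[A] (L • ⊤ : Submodule A M) :=
    LinearMap.codRestrict _ (∑ j, cs j • LinearMap.proj j) fun x => by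
      rw [LinearMap.sum_apply]
      exact Submodule.sum_mem _ fun j _ =>
        Submodule.smul_mem_smul (hcs ▸ Submodule.subset_span (Set.mem_range_self j)) trivial
  let π' : P ⟶ ModuleCat.of (CommRingCat.of A) (L • ⊤ : Submodule A M) := ModuleCat.ofHom π
  haveI : Epi π' := (ModuleCat.epi_iff_surjective _).2 fun z => by
    obtain ⟨z, hz⟩ := z
    suffices h : ∃ x : Fin k → M, ∑ j, cs j • x j = z by
      obtain ⟨x, hx⟩ := h
      exact ⟨x, Subtype.ext ((LinearMap.sum_apply _ _ x).trans hx)⟩
    refine Submodule.smul_induction_on hz (fun a ha m _ => ?_) fun z z' ⟨x, hx⟩ ⟨x', hx'⟩ =>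
      ⟨x + x', by simp only [Pi.add_apply, smul_add, Finset.sum_add_distrib, hx, hx']⟩
    obtain ⟨e, rfl⟩ := Submodule.mem_span_range_iff_exists_fun A |>.1 (hcs.symm ▸ ha)
    exact ⟨fun j => e j • m, by
      rw [Finset.sum_smul]
      exact Finset.sum_congr rfl fun j _ => by rw [smul_comm, smul_smul, smul_eq_mul]⟩
  haveI : Epi ((tR I).map π') := tildeR_epi (R := CommRingCat.of A) _ π'
  rw [← cancel_epi ((tR I).map π'), comp_zero, ← Category.assoc, ← Functor.map_comp,
    show π' ≫ (ModuleCat.ofHom ((L • ⊤ : Submodule A M).subtype) : ModuleCat.of _ _ ⟶ M) =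
      ∑ j, (ModuleCat.ofHom (LinearMap.proj j : (Fin k → M) →ₗ[A] M) : P ⟶ M) ≫
        ModuleCat.ofHom (cs j • LinearMap.id : M →ₗ[A] M) from ModuleCat.hom_ext (by
      rw [ModuleCat.hom_sum]
      exact LinearMap.ext fun x => ((LinearMap.sum_apply _ _ x).trans rfl).trans
        (LinearMap.sum_apply _ _ x).symm),
    Functor.map_sum, Preadditive.sum_comp]
  refine Finset.sum_eq_zero fun j _ => ?_
  rw [Functor.map_comp, tR_map_smul, Category.assoc, hφ _ (hcs ▸ Submodule.subset_span (Set.mem_range_self j)),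
    comp_zero]

variable {G : ℕᵒᵖ ⥤ (PU I).Modules}

set_option maxHeartbeats 800000 in
set_option synthInstance.maxHeartbeats 200000 in
/-- A system with split graded pieces and finite sections and first cohomology at the bottom is algebraizable. -/
theorem algebraizable_of_split [IsNoetherianRing A] [IsAdicComplete J A] (hG : IsSys J G) (hs : IsSplit hG)
    (h0 : Module.Finite A (Coh.HH (PU I) (G.obj (op 0)) 0))
    (h1 : Module.Finite A (Coh.HH (PU I) (G.obj (op 0)) 1)) : Algebraizable J G := by
  haveI := PunctFree27.quasiCompact_puncturedOpen I (IsNoetherian.noetherian I)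
  obtain ⟨hfin, d, hd⟩ := finite_famMod hG hs (Module.Finite.equiv (e0L _))
  haveI := hfin
  obtain ⟨c, hc⟩ := exists_family hG hs h1
  let M : ModuleCat.{u} (CommRingCat.of A) := ModuleCat.of A (famMod G)
  let ev : ∀ n, M ⟶ (secF I).obj (G.obj (op n)) := fun n => ConcreteCategory.ofHom (evn G n)
  haveI : Functor.PreservesZeroMorphisms (tR I) := inferInstanceAs
    (Functor.PreservesZeroMorphisms (tilde.functor (CommRingCat.of A) ⋙ Scheme.Modules.restrictFunctor _))
  let ε := epsR (R := CommRingCat.of A) (LocCoh.puncturedOpen A I)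
  have hε : ∀ n, IsIso (ε.app (G.obj (op n))) := fun n =>
    isIso_epsR (R := CommRingCat.of A) _ _ (hG.coh n).1
  let χ : ∀ n, (tR I).obj M ⟶ G.obj (op n) := fun n => (tR I).map (ev n) ≫ ε.app _
  have hep : ∀ n, Epi ((tR I).map (ev n)) := by
    intro n
    let C := ModuleCat.of (CommRingCat.of A) (Sn G n ⧸ LinearMap.range (evn G n))
    let q : (secF I).obj (G.obj (op n)) ⟶ C := ConcreteCategory.ofHom (LinearMap.range (evn G n)).mkQ
    haveI : Epi q := (ModuleCat.epi_iff_surjective _).2 (Submodule.mkQ_surjective _)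
    have hgq : (secF I).map (gm G (Nat.le_add_right n c)) ≫ q = 0 := ModuleCat.hom_ext (LinearMap.ext fun x => by
      obtain ⟨s, hs⟩ := hc n x
      show (LinearMap.range (evn G n)).mkQ (gs G (Nat.le_add_right n c) x) = 0
      rw [← hs, Submodule.mkQ_apply, Submodule.Quotient.mk_eq_zero]
      exact LinearMap.mem_range_self _ _)
    haveI : Epi (ε.app (G.obj (op (n + c))) ≫ gm G (Nat.le_add_right n c)) :=
      haveI := hε (n + c); haveI := (hG.quot_gm (Nat.le_add_right n c)).epi; epi_comp _ _
    haveI : Epi ((tR I).map ((secF I).map (gm G (Nat.le_add_right n c)))) := by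
      have hn := ε.naturality (gm G (Nat.le_add_right n c))
      haveI := hε n
      have : (tR I).map ((secF I).map (gm G (Nat.le_add_right n c))) =
          (ε.app (G.obj (op (n + c))) ≫ gm G (Nat.le_add_right n c)) ≫ inv (ε.app (G.obj (op n))) :=
        (IsIso.eq_comp_inv _).2 hn
      rw [this]
      exact epi_comp _ _
    have hq0 : (tR I).map q = 0 := by
      rw [← cancel_epi ((tR I).map ((secF I).map (gm G (Nat.le_add_right n c)))), ← Functor.map_comp, hgq,
        Functor.map_zero, comp_zero]
    let S := ShortComplex.mk (ev n) q (ModuleCat.hom_ext (LinearMap.ext fun x =>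
      (Submodule.Quotient.mk_eq_zero _).2 (LinearMap.mem_range_self _ x)))
    have hS : S.Exact := (ShortComplex.moduleCat_exact_iff _).2 fun x hx =>
      (Submodule.Quotient.mk_eq_zero _).1 hx
    obtain ⟨w, hw⟩ := tildeR_exact _ S hS
    exact hw.epi_f hq0
  have hcomp : ∀ n, χ (n + 1) ≫ gm G (Nat.le_succ n) = χ n := by
    intro n
    have h2 := ε.naturality (gm G (Nat.le_succ n))
    show ((tR I).map (ev (n + 1)) ≫ ε.app _) ≫ gm G (Nat.le_succ n) = _
    rw [Category.assoc]
    erw [← h2]
    show (tR I).map (ev (n + 1)) ≫ (tR I).map ((secF I).map (gm G (Nat.le_succ n))) ≫ ε.app _ = (tR I).map (ev n) ≫ _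
    rw [← Category.assoc, ← Functor.map_comp]
    congr 2
    exact ModuleCat.hom_ext (LinearMap.ext fun x => x.2 n)
  have hgm : ∀ {n m} (h : n ≤ m), χ m ≫ gm G h = χ n := by
    intro n m h
    induction m, h using Nat.le_induction with
    | base => rw [gm_refl, Category.comp_id]
    | succ m h ih => rw [← gm_comp G h (Nat.le_succ m), ← Category.assoc, hcomp, ih]
  refine ⟨(tR I).obj M, χ, ?_, fun n => ?_, hcomp⟩
  · haveI : Module.FinitePresentation A (famMod G) := Module.finitePresentation_of_finite _ _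
    exact DPerf.isCoh_restrict ((M1.isCoh_iff_isFP _).2 (M1.isFP_tilde (R := CommRingCat.of A) M)) _
  · haveI := hε n
    haveI := hep n
    refine ⟨epi_comp _ _, fun a ha => by rw [smulMod_naturality, hG.killed n a ha, comp_zero], fun {T} φ hφ => ?_⟩
    obtain ⟨m, hm, hmd⟩ : ∃ m, n ≤ m ∧ n + 1 ≤ m + 1 - d := ⟨n + d, by omega, by omega⟩
    let K : ModuleCat.{u} (CommRingCat.of A) := ModuleCat.of A (LinearMap.ker (evn G m))
    let S := ShortComplex.mk (ModuleCat.ofHom (LinearMap.ker (evn G m)).subtype : K ⟶ M) (ev m)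
      (ModuleCat.hom_ext (LinearMap.ext fun x => x.2))
    have hS : S.Exact := (ShortComplex.moduleCat_exact_iff _).2 fun x hx => ⟨⟨x, hx⟩, rfl⟩
    obtain ⟨w, hw⟩ := tildeR_exact (R := CommRingCat.of A) (LocCoh.puncturedOpen A I) S hS
    have hle : LinearMap.ker (evn G m) ≤ J ^ (n + 1) • (⊤ : Submodule A (famMod G)) := fun x hx =>
      Submodule.smul_mono_left (Ideal.pow_le_pow_right hmd) (hd (m + 1) (mem_kerLvl_succ.2 hx))
    have hkill : (tR I).map S.f ≫ φ = 0 := by
      rw [show S.f = (ModuleCat.ofHom (Submodule.inclusion hle) :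
          K ⟶ ModuleCat.of _ (J ^ (n + 1) • ⊤ : Submodule A (famMod G))) ≫
          (ModuleCat.ofHom ((J ^ (n + 1) • ⊤ : Submodule A (famMod G)).subtype) : ModuleCat.of _ _ ⟶ M) from rfl,
        Functor.map_comp, Category.assoc, tR_incl_comp (J ^ (n + 1)) M φ hφ, comp_zero]
    haveI := hep m
    haveI := hε m
    haveI : Epi (χ m) := epi_comp _ _
    haveI : Epi (ShortComplex.mk _ _ w).g := hep m
    obtain ⟨φ', hφ'⟩ : ∃ φ', χ m ≫ φ' = φ :=
      ⟨inv (ε.app (G.obj (op m))) ≫ hw.desc φ hkill, by
        simp only [χ, Category.assoc, IsIso.hom_inv_id_assoc]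
        exact hw.g_desc φ hkill⟩
    obtain ⟨φ'', hφ''⟩ := (hG.quot_gm hm).desc φ' fun a ha => by
      rw [← cancel_epi (χ m), comp_zero, ← smulMod_naturality_assoc, hφ', hφ a ha]
    exact ⟨φ'', by rw [← hgm hm, Category.assoc, hφ'', hφ']⟩

end Groth.Agent.NFlatFormalH7
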