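import Groth.Agent.Lib.NFlatFormalH7.Families
import Groth.Agent.Lib.Algz27.Canon27
import Groth.Agent.Lib.Algz27.ML27
import Groth.Prelude.Def_Algz

/-!
# Systems with split graded pieces canonically extend
-/

set_option autoImplicit false
set_option linter.style.haveILetI false
set_option backward.isDefEq.respectTransparency false
set_option backward.isDefEq.respectTransparency.types false

universe u

open CategoryTheory CategoryTheory.Limits AlgebraicGeometry Opposite

noncomputable section

namespace Groth.Agent.NFlatFormalH7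

open Groth.Agent Groth.Agent.GExistH7 Groth.Agent.FormalH7
open Groth.Agent.ComplFormalH7 (PU secF Sn gs gs_gs famMod evn gs_evn e0L)

variable {A : Type u} [CommRing A] {I J : Ideal A} {G : ℕᵒᵖ ⥤ (PU I).Modules}

theorem exists_family_of_terms (hG : IsSys J G) (x : ℕ → famMod G) (c : ℕ → A) (hc : ∀ j, c j ∈ J ^ j) :
    ∃ t : famMod G, ∀ m, evn G m t = ∑ j ∈ Finset.range (m + 1), c j • evn G m (x j) := by
  refine ⟨⟨fun m => ∑ j ∈ Finset.range (m + 1), c j • evn G m (x j), fun m => ?_⟩, fun m => rfl⟩
  show gs G (Nat.le_succ m) _ = _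
  simp only [map_sum, map_smul, gs_evn]
  rw [Finset.sum_range_succ, smul_eq_zero_of_mem hG (hc (m + 1)), add_zero]

variable [IsNoetherianRing A]

/-- The images of families are finite, and the level filtration is finer than the adic one. -/
theorem finite_images (hG : IsSys J G) (hs : IsSplit hG) (hfin : Module.Finite A (Sn G 0)) :
    (∀ n, Module.Finite A (LinearMap.range (evn G n))) ∧
      ∀ k, ∃ N, kerLvl G N ≤ J ^ k • (⊤ : Submodule A (famMod G)) := by
  obtain ⟨c, ι, hι, v, hv⟩ := exists_bounded_generators hG hs hfin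
  let L := Fintype.linearCombination A v
  choose e he he' using fun (N : ℕ) (s : kerLvl G N) => hv N s s.2
  have hrec : ∀ (N : ℕ) (s : kerLvl G N), ∃ P : ℕ → ι → A, (∀ j i, P j i ∈ J ^ (N + j - c)) ∧
      ∀ m, evn G m (s : famMod G) = ∑ j ∈ Finset.range (m + 1), evn G m (L (P j)) := by
    intro N s
    let xs : ∀ j, kerLvl G (N + j) := fun j => j.rec (motive := fun j => kerLvl G (N + j)) s fun j x => ⟨_, he' (N + j) x⟩
    refine ⟨fun j => e (N + j) (xs j), fun j i => he (N + j) (xs j) i, fun m => ?_⟩
    have hsum : ∀ j, (xs j : famMod G) = s - ∑ l ∈ Finset.range j, L (e (N + l) (xs l)) := by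
      intro j
      induction j with
      | zero => simp [xs]
      | succ j ih =>
        show (xs j : famMod G) - L (e (N + j) (xs j)) = _
        rw [ih, Finset.sum_range_succ, sub_sub]
    have h0 : evn G m (xs (m + 1) : famMod G) = 0 := mem_kerLvl.1 (xs (m + 1)).2 m (by omega)
    rw [hsum, map_sub, map_sum, sub_eq_zero] at h0
    exact h0
  refine ⟨fun n => ?_, fun k => ⟨k + c, fun s hsk => ?_⟩⟩
  · haveI : Module.Finite A (LinearMap.range (evn G n ∘ₗ L)) := Module.Finite.range _
    have hle : LinearMap.range (evn G n) = LinearMap.range (evn G n ∘ₗ L) := by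
      refine le_antisymm ?_ (LinearMap.range_comp_le_range L (evn G n))
      rintro _ ⟨s, rfl⟩
      obtain ⟨P, -, hP⟩ := hrec 0 ⟨s, mem_kerLvl.2 fun m hm => absurd hm (Nat.not_lt_zero m)⟩
      rw [show evn G n s = _ from hP n]
      exact Submodule.sum_mem _ fun j _ => ⟨P j, rfl⟩
    rw [hle]
    infer_instance
  · obtain ⟨P, hP, hPs⟩ := hrec (k + c) ⟨s, hsk⟩
    obtain ⟨r, b, hb⟩ := Submodule.fg_iff_exists_fin_generating_family.1 (IsNoetherian.noetherian (J ^ k))
    have hsplit : ∀ j i, ∃ g : Fin r → A, (∀ l, g l ∈ J ^ j) ∧ ∑ l, g l * b l = P j i := fun j i => by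
      have h : P j i ∈ J ^ j * J ^ k := by
        rw [← pow_add]
        exact Ideal.pow_le_pow_right (by omega) (hP j i)
      refine Submodule.mul_induction_on h (fun x hx y hy => ?_) fun x y ⟨g, hg, hgx⟩ ⟨g', hg', hgy⟩ => ?_
      · obtain ⟨d, rfl⟩ := Submodule.mem_span_range_iff_exists_fun A |>.1 (hb.symm.le hy)
        exact ⟨fun l => x * d l, fun l => Ideal.mul_mem_right _ _ hx, by
          rw [Finset.mul_sum]; exact Finset.sum_congr rfl fun l _ => by rw [smul_eq_mul, mul_assoc]⟩
      · exact ⟨g + g', fun l => add_mem (hg l) (hg' l), by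
          simp only [Pi.add_apply, add_mul, Finset.sum_add_distrib, hgx, hgy]⟩
    choose g hg hgP using hsplit
    choose t ht using fun (l : Fin r) (i : ι) =>
      exists_family_of_terms hG (fun _ => v i) (fun j => g j i l) fun j => hg j i l
    have hs' : s = ∑ l, b l • ∑ i, t l i := Subtype.ext (funext fun m => by
      show evn G m s = evn G m _
      rw [show evn G m s = _ from hPs m]
      simp only [map_sum, map_smul, ht, Finset.smul_sum, L, Fintype.linearCombination_apply]
      rw [Finset.sum_comm (s := (Finset.univ : Finset (Fin r)))]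
      rw [Finset.sum_comm (s := Finset.range (m + 1))]
      refine Finset.sum_congr rfl fun i _ => ?_
      rw [Finset.sum_comm (s := (Finset.univ : Finset (Fin r)))]
      refine Finset.sum_congr rfl fun j _ => ?_
      simp only [smul_smul, ← Finset.sum_smul]
      congr 1
      rw [← hgP j i]
      exact Finset.sum_congr rfl fun l _ => mul_comm _ _)
    rw [hs']
    exact Submodule.sum_mem _ fun l _ => Submodule.smul_mem_smul (hb ▸ Submodule.subset_span (Set.mem_range_self l)) trivial

/-- Systems with split graded pieces and finite bottom level canonically extend. -/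
theorem canonicallyExtends_of_split (hG : IsSys J G) (hs : IsSplit hG)
    (h0 : Module.Finite A (Coh.HH (PU I) (G.obj (op 0)) 0))
    (h1 : Module.Finite A (Coh.HH (PU I) (G.obj (op 0)) 1)) :
    Algz.CanonicallyExtends A J (LocCoh.puncturedOpen A I) G := by
  let X := Algz.sectMod A (LocCoh.puncturedOpen A I) G
  obtain ⟨hfinR, htop⟩ := finite_images hG hs (Module.Finite.equiv (e0L _))
  obtain ⟨c, hc⟩ := exists_family hG hs h1
  let ev : ∀ n, ModuleCat.of A (famMod G) ⟶ X.obj (op n) := fun n =>
    show ModuleCat.of (CommRingCat.of A) (famMod G) ⟶ (secF I).obj (G.obj (op n)) from ConcreteCategory.ofHom (evn G n)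
  let C : Cone X :=
    { pt := ModuleCat.of A (famMod G)
      π := NatTrans.ofOpSequence (F := (Functor.const ℕᵒᵖ).obj (ModuleCat.of A (famMod G))) ev fun n =>
        (Category.id_comp _).trans (ModuleCat.hom_ext (LinearMap.ext fun s => by
          show evn G n s = gs G (Nat.le_succ n) (evn G (n + 1) s)
          exact (gs_evn s (Nat.le_succ n)).symm)) }
  let φ : ModuleCat.of A (famMod G) ⟶ limit X := limit.lift X C
  have hφ : ∀ n, φ ≫ limit.π X (op n) = ev n := fun n => limit.lift_π C (op n)
  let ψ : (limit X : ModuleCat.{u} A) →ₗ[A] famMod G :=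
    LinearMap.codRestrict _ (LinearMap.pi fun n => (limit.π X (op n)).hom) fun x n =>
      LinearMap.congr_fun (congrArg ModuleCat.Hom.hom (limit.w X (homOfLE (Nat.le_succ n)).op)) x
  have hψ : ∀ n x, evn G n (ψ x) = (limit.π X (op n)).hom x := fun n x => rfl
  have hφψ : ∀ x, φ.hom (ψ x) = x := by
    have h : ModuleCat.ofHom ψ ≫ φ = 𝟙 (limit X) := limit.hom_ext fun j => by
      induction j using Opposite.rec with
      | op n => rw [Category.assoc, hφ, Category.id_comp]; exact ModuleCat.hom_ext (LinearMap.ext fun x => (ModuleCat.comp_apply _ _ x).trans (hψ n x))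
    exact fun x => LinearMap.congr_fun (congrArg ModuleCat.Hom.hom h) x
  letI : (Spec (CommRingCat.of A)).Over (Spec (CommRingCat.of A)) := Algz27C.selfOver A
  refine Algz27C.canonicallyExtends_of_sections J (LocCoh.puncturedOpen A I) G
    (fun n a ha x => smul_eq_zero_of_mem hG ha x) (fun n => ⟨c, fun r hr => ?_⟩) (fun k => ?_) fun n => ?_
  · have him : ∀ q, c ≤ q → LinearMap.range (gs G (Nat.le_add_right n q)) = LinearMap.range (evn G n) := fun q hq => by
      refine le_antisymm ?_ ?_
      · rintro _ ⟨x, rfl⟩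
        obtain ⟨s, hs⟩ := hc n (gs G (show n + c ≤ n + q by omega) x)
        exact ⟨s, hs.trans (gs_gs _ _ x)⟩
      · rintro _ ⟨s, rfl⟩
        exact ⟨evn G (n + q) s, gs_evn s _⟩
    have key : ∀ q q', c ≤ q → c ≤ q' →
        imageSubobject (ARSys.shiftMap X q n) ≤ imageSubobject (ARSys.shiftMap X q' n) := fun q q' hq hq' => by
      refine AlgzLib.imageSubobject_le_of_comp_cokernel _ _ (ModuleCat.hom_ext (LinearMap.ext fun x => ?_))
      have h : gs G (Nat.le_add_right n q) x ∈ LinearMap.range (gs G (Nat.le_add_right n q')) := by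
        rw [him q' hq', ← him q hq]
        exact LinearMap.mem_range_self _ x
      obtain ⟨w, hw⟩ := h
      exact (congrArg (cokernel.π (ARSys.shiftMap X q' n)).hom hw.symm).trans
        (LinearMap.congr_fun (congrArg ModuleCat.Hom.hom (cokernel.condition (ARSys.shiftMap X q' n))) w)
    exact le_antisymm (key r c hr le_rfl) (key c r le_rfl hr)
  · obtain ⟨N, hN⟩ := htop k
    refine ⟨N, fun x hx => ?_⟩
    have hmem : ψ x ∈ kerLvl G (N + 1) := mem_kerLvl_succ.2 ((hψ N x).trans (LinearMap.mem_ker.1 hx))
    have hle : kerLvl G (N + 1) ≤ kerLvl G N := fun s hs => mem_kerLvl.2 fun m hm => mem_kerLvl.1 hs m (by omega)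
    have h := Submodule.mem_map_of_mem (f := φ.hom) (hN (hle hmem))
    rw [Submodule.map_smul'', hφψ x] at h
    exact Submodule.smul_mono le_rfl le_top h
  · haveI := hfinR n
    have h : LinearMap.range (limit.π X (op n)).hom = LinearMap.range (evn G n) := by
      refine le_antisymm ?_ ?_
      · rintro _ ⟨x, rfl⟩
        exact ⟨ψ x, hψ n x⟩
      · rintro _ ⟨s, rfl⟩
        exact ⟨φ.hom s, (ModuleCat.comp_apply φ (limit.π X (op n)) s).symm.trans (LinearMap.congr_fun (congrArg ModuleCat.Hom.hom (hφ n)) s)⟩
    rw [h]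
    exact hfinR n

end Groth.Agent.NFlatFormalH7
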