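import Groth.Agent.Lib.NFlatFormalH7.Stable
import Groth.Agent.Lib.ComplFormalH7.Families

/-!
# Compatible families for systems with split graded pieces
-/

set_option autoImplicit false
set_option linter.style.haveILetI false
set_option backward.isDefEq.respectTransparency false
set_option backward.isDefEq.respectTransparency.types false

universe u

open CategoryTheory CategoryTheory.Limits AlgebraicGeometry Opposite

noncomputable section

namespace Groth.Agent.NFlatFormalH7

open Groth.Agent Groth.Agent.GExistH7 Groth.Agent.FormalH7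
open Groth.Agent.ComplFormalH7 (PU secF Sn gs gs_gs gs_refl famMod evn gs_evn e0 e0_hmap e0L secF_map_smulMod)

variable {A : Type u} [CommRing A] {I J : Ideal A} {G : ℕᵒᵖ ⥤ (PU I).Modules} (hG : IsSys J G)

/-- Multiplication on sections. -/
def jmS {m M q : ℕ} (hm : m ≤ M) (hq : M ≤ q + m) (a : ↥(J ^ q)) : Sn G m →ₗ[A] Sn G M :=
  ((secF I).map (jm hG hm hq a)).hom

theorem jmS_gs {m M q : ℕ} (hm : m ≤ M) (hq : M ≤ q + m) (a : ↥(J ^ q)) (y : Sn G M) :
    jmS hG hm hq a (gs G hm y) = (a : A) • y := by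
  rw [← secF_map_smulMod, ← gm_jm hG hm hq a, Functor.map_comp]
  rfl

theorem jmS_evn {m M q : ℕ} (hm : m ≤ M) (hq : M ≤ q + m) (a : ↥(J ^ q)) (s : famMod G) :
    jmS hG hm hq a (evn G m s) = evn G M ((a : A) • s) := by
  rw [map_smul, ← gs_evn s hm, jmS_gs]

include hG in
theorem smul_eq_zero_of_mem {n : ℕ} {a : A} (ha : a ∈ J ^ (n + 1)) (x : Sn G n) : a • x = 0 := by
  rw [← secF_map_smulMod, hG.killed n a ha, Functor.map_zero]
  rfl

/-- The multiplications from the bottom, linearly in the multiplier. -/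
def lS (M : ℕ) : ↥(J ^ M) →ₗ[A] Sn G 0 →ₗ[A] Sn G M where
  toFun a := jmS hG (Nat.zero_le M) (le_refl M) a
  map_add' a b := by
    rw [jmS, jm_add, Functor.map_add]
    rfl
  map_smul' c a := LinearMap.ext fun x => by
    show (secF I).map (jm hG _ _ (c • a)) x = c • (secF I).map (jm hG (Nat.zero_le M) (le_refl M) a) x
    rw [jm_smul, smulMod_naturality, Functor.map_comp, ← secF_map_smulMod (G.obj (op M)) c]
    rfl

variable (G) in
/-- Families vanishing below a level. -/
def kerLvl (N : ℕ) : Submodule A (famMod G) := ⨅ m : Fin N, LinearMap.ker (evn G m)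

theorem mem_kerLvl {N : ℕ} {s : famMod G} : s ∈ kerLvl G N ↔ ∀ m < N, evn G m s = 0 := by
  rw [kerLvl, Submodule.mem_iInf]
  exact ⟨fun h m hm => LinearMap.mem_ker.1 (h ⟨m, hm⟩), fun h m => LinearMap.mem_ker.2 (h m m.2)⟩

theorem mem_kerLvl_succ {N : ℕ} {s : famMod G} : s ∈ kerLvl G (N + 1) ↔ evn G N s = 0 := by
  rw [mem_kerLvl]
  refine ⟨fun h => h N (Nat.lt_succ_self N), fun h m hm => ?_⟩
  rw [← gs_evn s (Nat.lt_succ_iff.1 hm), h, map_zero]

include hG in
theorem smul_mem_kerLvl {q M : ℕ} {a : A} (ha : a ∈ J ^ q) {s : famMod G} (hs : s ∈ kerLvl G M) :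
    a • s ∈ kerLvl G (q + M) := by
  rw [mem_kerLvl] at hs ⊢
  intro m hm
  by_cases hmq : m < q
  · rw [map_smul]
    exact smul_eq_zero_of_mem hG (Ideal.pow_le_pow_right hmq ha) _
  · have h : m = q + (m - q) := by omega
    rw [← jmS_evn hG (show m - q ≤ m by omega) (le_of_eq h) ⟨a, ha⟩ s, hs _ (by omega), map_zero]

variable (hs : IsSplit hG)
include hs

/-- Families exist through the images of deep levels. -/
theorem exists_family [IsNoetherianRing A] (hfin : Module.Finite A (Coh.HH (PU I) (G.obj (op 0)) 1)) :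
    ∃ c, ∀ (n : ℕ) (x : Sn G (n + c)), ∃ s : famMod G, evn G n s = gs G (Nat.le_add_right n c) x := by
  obtain ⟨c, hc⟩ := exists_stable_lift hG hs hfin
  refine ⟨c, fun n x => ?_⟩
  have hstep : ∀ (k : ℕ) (y : Sn G (n + k + c)), ∃ y' : Sn G (n + (k + 1) + c),
      gs G (show n + k ≤ n + (k + 1) + c by omega) y' = gs G (show n + k ≤ n + k + c by omega) y := by
    intro k y
    obtain ⟨x', hx'⟩ := hc (n + k) (n + k + c) rfl ((e0 _).symm y)
    have h1 := congrArg (e0 _) hx'
    rw [e0_hmap, e0_hmap, AddEquiv.apply_symm_apply] at h1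
    refine ⟨gs G (show n + (k + 1) + c ≤ n + k + c + 1 by omega) (e0 _ x'), ?_⟩
    rw [gs_gs]
    exact h1
  choose next hnext using hstep
  let y : ∀ k, Sn G (n + k + c) := fun k => k.rec (motive := fun k => Sn G (n + k + c)) x next
  let s : ∀ m, Sn G m := fun m => gs G (show m ≤ n + m by omega)
    (gs G (show n + m ≤ n + m + c by omega) (y m))
  have hy : ∀ k, gs G (show n + k ≤ n + (k + 1) + c by omega) (y (k + 1)) =
      gs G (show n + k ≤ n + k + c by omega) (y k) := fun k => hnext k (y k)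
  have hyk : ∀ k, gs G (show n ≤ n + k + c by omega) (y k) = gs G (Nat.le_add_right n c) x := by
    intro k
    induction k with
    | zero => rfl
    | succ k ih =>
      rw [← gs_gs (show n ≤ n + k by omega) (show n + k ≤ n + (k + 1) + c by omega), hy, gs_gs]
      exact ih
  refine ⟨⟨s, fun m => ?_⟩, ?_⟩
  · show gs G _ (gs G _ (gs G _ (y (m + 1)))) = gs G _ (gs G _ (y m))
    rw [← hy m]
    simp only [gs_gs]
  · show gs G _ (gs G _ (y n)) = _
    rw [gs_gs]
    exact hyk n

/-- A section vanishing one level below comes from the bottom level. -/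
theorem exists_homogeneous {σ : Type u} (τ : σ → A) (hJ : idl τ = J) (N : ℕ) (y : Sn G N)
    (hy : ∀ n, (h : n + 1 = N) → gs G (show n ≤ N by omega) y = 0) :
    ∃ (r : ℕ) (p : Fin r → MvPolynomial σ A) (a : Fin r → ↥(J ^ N)) (z : Fin r → Sn G 0),
      (∀ j, (p j).IsHomogeneous N) ∧ (∀ j, MvPolynomial.eval τ (p j) = (a j : A)) ∧
      ∑ j, lS hG N (a j) (z j) = y := by
  subst hJ
  rcases N with _ | n
  · refine ⟨1, fun _ => 1, fun _ => ⟨1, by simp⟩, fun _ => y, fun _ => MvPolynomial.isHomogeneous_one _ _,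
      fun _ => map_one _, ?_⟩
    rw [Finset.univ_unique, Finset.sum_singleton]
    refine Eq.trans ?_ (one_smul A y)
    show jmS hG _ _ _ y = _
    conv_lhs => rw [← gs_refl y]
    exact jmS_gs hG _ _ _ _
  · obtain ⟨r, a, σ', hσ'⟩ := hs n
    choose p hp hpe using fun j => exists_eval_eq τ (a j).2
    let gA := gm G (Nat.le_succ n)
    haveI : Epi gA := (hG.quot_gm _).epi
    have hA : (ShortComplex.mk (kernel.ι gA) gA (kernel.condition gA)).ShortExact :=
      { exact := ShortComplex.exact_kernel gA }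
    obtain ⟨x, rfl⟩ := (e0 _).surjective y
    obtain ⟨z, rfl⟩ := (CurveCoh17.exact_hmap_hmap A hA 0 x).1 ((e0 _).injective
      ((e0_hmap _ x).trans ((hy n rfl).trans (map_zero _).symm)))
    refine ⟨r, p, a, fun j => (secF I).map (σ' j) (e0 _ z), hp, hpe, ?_⟩
    show _ = e0 _ (CurveCoh17.hmap A (kernel.ι gA) 0 z)
    rw [← hσ', hmap_sum, map_sum]
    refine Finset.sum_congr rfl fun j _ => ?_
    rw [e0_hmap, Functor.map_comp]
    rfl

set_option maxHeartbeats 800000 in
/-- The graded pieces of the families are generated in bounded degrees. -/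
theorem exists_bounded_generators [IsNoetherianRing A] (hfin : Module.Finite A (Sn G 0)) :
    ∃ (c : ℕ) (ι : Type u) (_ : Fintype ι) (v : ι → famMod G), ∀ (N : ℕ) (s : famMod G), s ∈ kerLvl G N →
      ∃ e : ι → A, (∀ i, e i ∈ J ^ (N - c)) ∧ s - Fintype.linearCombination A v e ∈ kerLvl G (N + 1) := by
  obtain ⟨r₀, τ, hτ⟩ := Submodule.fg_iff_exists_fin_generating_family.1 (IsNoetherian.noetherian J)
  let τ' : ULift.{u} (Fin r₀) → A := fun i => τ i.down
  have hJ : idl τ' = J := by
    rw [idl, ← hτ, show Set.range τ' = Set.range τ from Set.ext fun z =>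
      ⟨fun ⟨i, hi⟩ => ⟨i.down, hi⟩, fun ⟨i, hi⟩ => ⟨⟨i⟩, hi⟩⟩]
  subst hJ
  let Φ : ∀ M : ℕ, PolyMod (A := A) (Sn G 0) (ULift.{u} (Fin r₀)) →ₗ[A] Sn G M := fun M => phi τ' (lS hG M)
  have hshift : ∀ (q : ℕ) (f : MvPolynomial (ULift.{u} (Fin r₀)) A) (hf : f.IsHomogeneous q) (M : ℕ) (w),
      Φ (q + M) (f • w) = jmS hG (Nat.le_add_left M q) (le_refl (q + M))
        ⟨MvPolynomial.eval τ' f, eval_mem_pow τ' hf⟩ (Φ M w) := fun q f hf M w =>
    phi_homogeneous_smul τ' rfl hf _ _ (jmS hG _ _ _) (fun a b hab h => by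
      show (secF I).map _ h = (secF I).map _ ((secF I).map _ h)
      rw [← ConcreteCategory.comp_apply, ← Functor.map_comp,
        jm_comp hG _ _ _ _ (show q + M ≤ q + M + 0 by omega) a _ b hab]) w
  let W : Submodule (MvPolynomial (ULift.{u} (Fin r₀)) A) (PolyMod (A := A) (Sn G 0) (ULift.{u} (Fin r₀))) :=
    { carrier := {w | ∀ M, Φ M w ∈ Submodule.map (evn G M) (kerLvl G M)}
      zero_mem' := fun M => by rw [map_zero]; exact zero_mem _
      add_mem' := fun {a b} ha hb M => by rw [map_add]; exact add_mem (ha M) (hb M)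
      smul_mem' := fun p w hw M => by
        rw [← MvPolynomial.sum_homogeneousComponent p, Finset.sum_smul, map_sum]
        refine Submodule.sum_mem _ fun i _ => ?_
        have hf := MvPolynomial.homogeneousComponent_isHomogeneous i p
        rcases le_or_gt i M with h | h
        · obtain ⟨k, rfl⟩ := Nat.exists_eq_add_of_le h
          obtain ⟨s, hs, hs'⟩ := hw k
          rw [hshift i _ hf, ← hs', jmS_evn]
          exact Submodule.mem_map_of_mem (smul_mem_kerLvl hG (eval_mem_pow τ' hf) hs)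
        · rw [show Φ M (_ • w) = 0 from phi_homogeneous_smul_of_lt τ' h hf _ w]
          exact zero_mem _ }
  obtain ⟨c, S, hS, hSc⟩ := exists_bound W
  have hSW : ∀ g : ↥S, ∀ d : ℕ, ∃ s ∈ kerLvl G d, evn G d s = Φ d g := fun g d =>
    Submodule.mem_map.1 ((hS ▸ Submodule.subset_span g.2 : (g : PolyMod (A := A) (Sn G 0) (ULift.{u} (Fin r₀))) ∈ W) d)
  choose v hv hve using hSW
  classical
  let vv : ↥S × Fin (c + 1) → famMod G := fun i => v i.1 i.2
  refine ⟨c, ↥S × Fin (c + 1), inferInstance, vv, fun N s hsN => ?_⟩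
  let T : Submodule A (↥S × Fin (c + 1) → A) := Submodule.pi Set.univ fun _ => (idl τ' ^ (N - c) : Ideal A)
  suffices hy : evn G N s ∈ (T.map (Fintype.linearCombination A vv)).map (evn G N) by
    obtain ⟨_, ⟨e, he, rfl⟩, he'⟩ := hy
    exact ⟨e, fun i => he i (Set.mem_univ i), mem_kerLvl_succ.2 (by rw [map_sub, he', sub_self])⟩
  obtain ⟨r, p, a, z, hp, hpe, hsum⟩ := exists_homogeneous hG hs τ' rfl N (evn G N s) (fun n hn => by
    rw [gs_evn]
    exact mem_kerLvl.1 hsN n (by omega))
  let w : PolyMod (A := A) (Sn G 0) (ULift.{u} (Fin r₀)) := ∑ j, p j ⊗ₜ z j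
  have hwN : Φ N w = evn G N s := by
    rw [← hsum, map_sum]
    exact Finset.sum_congr rfl fun j _ => phi_tmul_homogeneous τ' _ (hp j) (a j) (hpe j) _
  have hw : w ∈ W := fun M => by
    by_cases hM : M = N
    · subst hM
      rw [hwN]
      exact Submodule.mem_map_of_mem hsN
    · rw [map_sum]
      refine Submodule.sum_mem _ fun j _ => ?_
      rw [show Φ M (p j ⊗ₜ z j) = 0 by
        show phi τ' _ _ = 0
        rw [phi_tmul, evL_of_ne τ' (hp j) hM, map_zero, LinearMap.zero_apply]]
      exact zero_mem _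
  rw [← hS] at hw
  obtain ⟨f, -, hf⟩ := Submodule.mem_span_finset.1 hw
  rw [← hwN, ← hf, map_sum]
  refine Submodule.sum_mem _ fun g hg => ?_
  rw [← MvPolynomial.sum_homogeneousComponent (f g), Finset.sum_smul, map_sum]
  refine Submodule.sum_mem _ fun q _ => ?_
  have hq := MvPolynomial.homogeneousComponent_isHomogeneous q (f g)
  rcases le_or_gt q N with h | h
  · obtain ⟨k, rfl⟩ := Nat.exists_eq_add_of_le h
    rw [hshift q _ hq]
    by_cases hk : k ≤ c
    · rw [← hve ⟨g, hg⟩ k, jmS_evn]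
      refine Submodule.mem_map_of_mem ⟨Pi.single (⟨g, hg⟩, ⟨k, Nat.lt_succ_of_le hk⟩) _, fun i _ => ?_,
        Fintype.linearCombination_apply_single ..⟩
      rcases eq_or_ne i (⟨g, hg⟩, ⟨k, Nat.lt_succ_of_le hk⟩) with rfl | hi
      · rw [Pi.single_eq_same]
        exact Ideal.pow_le_pow_right (by omega) (eval_mem_pow τ' hq)
      · rw [Pi.single_eq_of_ne hi]
        exact zero_mem _
    · rw [show Φ k g = 0 from phi_of_boundedBy τ' (not_le.1 hk) _ (hSc g hg), map_zero]
      exact zero_mem _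
  · rw [show Φ N (_ • g) = 0 from phi_homogeneous_smul_of_lt τ' h hq _ g]
    exact zero_mem _

/-- Families are finite, and the filtration by levels is equivalent to the adic one. -/
theorem finite_famMod [IsNoetherianRing A] [IsAdicComplete J A] (hfin : Module.Finite A (Sn G 0)) :
    Module.Finite A (famMod G) ∧ ∃ c, ∀ N, kerLvl G N ≤ J ^ (N - c) • (⊤ : Submodule A (famMod G)) := by
  obtain ⟨c, ι, hι, v, hv⟩ := exists_bounded_generators hG hs hfin
  suffices key : ∀ (N : ℕ) (s : famMod G), s ∈ kerLvl G N →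
      ∃ b : ι → A, (∀ i, b i ∈ J ^ (N - c)) ∧ Fintype.linearCombination A v b = s by
    refine ⟨Module.Finite.of_surjective (Fintype.linearCombination A v) fun s => ?_, c, fun N s hsN => ?_⟩
    · obtain ⟨b, -, hb⟩ := key 0 s (mem_kerLvl.2 fun m hm => absurd hm (Nat.not_lt_zero m))
      exact ⟨b, hb⟩
    · obtain ⟨b, hb, rfl⟩ := key N s hsN
      rw [Fintype.linearCombination_apply]
      exact Submodule.sum_mem _ fun i _ => Submodule.smul_mem_smul (hb i) trivial
  intro N s hsN
  let L := Fintype.linearCombination A v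
  have hstep : ∀ (j : ℕ) (x : kerLvl G (N + j)), ∃ e : ι → A, (∀ i, e i ∈ J ^ (N + j - c)) ∧
      (x : famMod G) - L e ∈ kerLvl G (N + (j + 1)) := fun j x => hv (N + j) x x.2
  choose e he he' using hstep
  let xs : ∀ j, kerLvl G (N + j) := fun j =>
    j.rec (motive := fun j => kerLvl G (N + j)) ⟨s, hsN⟩ fun j x => ⟨_, he' j x⟩
  let P : ℕ → ι → A := fun j => ∑ l ∈ Finset.range j, e l (xs l)
  have hP : ∀ j, (xs j : famMod G) = s - L (P j) := by
    intro j
    induction j with
    | zero => simp [P, xs]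
    | succ j ih =>
      show (xs j : famMod G) - L (e j (xs j)) = _
      rw [ih, show P (j + 1) = P j + e j (xs j) from Finset.sum_range_succ _ _, map_add, sub_sub]
  have hPm : ∀ j i, P j i ∈ J ^ (N - c) := fun j i => by
    rw [show P j i = ∑ l ∈ Finset.range j, e l (xs l) i from Finset.sum_apply _ _ _]
    exact Ideal.sum_mem _ fun l _ => Ideal.pow_le_pow_right (by omega) (he l (xs l) i)
  have hlim : ∀ i, ∃ b : A, ∀ j, P (j + c) i - b ∈ J ^ j := by
    intro i
    obtain ⟨b, hb⟩ := IsPrecomplete.prec' (I := J) (M := A) (fun j => P (j + c) i) (fun {p q} hpq => by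
      rw [SModEq.sub_mem, ← neg_sub]
      refine Submodule.neg_mem _ ?_
      rw [smul_eq_mul, Ideal.mul_top, ← Pi.sub_apply, show P (q + c) - P (p + c) = ∑ l ∈ Finset.Ico (p + c) (q + c), e l (xs l) from
        (Finset.sum_Ico_eq_sub _ (by omega)).symm, Finset.sum_apply]
      refine Ideal.sum_mem _ fun l hl => Ideal.pow_le_pow_right ?_ (he l (xs l) i)
      have := (Finset.mem_Ico.1 hl).1
      omega)
    refine ⟨b, fun j => ?_⟩
    have h1 := SModEq.sub_mem.1 (hb j)
    rwa [smul_eq_mul, Ideal.mul_top] at h1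
  choose b hb using hlim
  refine ⟨b, fun i => ?_, Subtype.ext (funext fun m => ?_)⟩
  · have h1 := sub_mem (hPm (N - c + c) i) (hb i (N - c))
    rwa [sub_sub_cancel] at h1
  · show evn G m (L b) = evn G m s
    have h0 : evn G m (xs (m + 1 + c) : famMod G) = 0 := mem_kerLvl.1 (xs (m + 1 + c)).2 m (by omega)
    rw [hP, map_sub, sub_eq_zero] at h0
    rw [h0, eq_comm, ← sub_eq_zero, ← map_sub, ← map_sub, Fintype.linearCombination_apply, map_sum]
    refine Finset.sum_eq_zero fun i _ => ?_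
    rw [map_smul]
    exact smul_eq_zero_of_mem hG (hb i (m + 1)) _

end Groth.Agent.NFlatFormalH7
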