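import Groth.Agent.Lib.NFlatFormalH7.Split

/-!
# Splitting from local generators of the kernels
-/

set_option autoImplicit false
set_option linter.style.haveILetI false
set_option backward.isDefEq.respectTransparency false
set_option backward.isDefEq.respectTransparency.types false

universe u

open CategoryTheory CategoryTheory.Limits AlgebraicGeometry Opposite

noncomputable section

namespace Groth.Agent.NFlatFormalH7

open Groth.Agent Groth.Agent.GExistH7 Groth.Agent.FormalH7
open Groth.Agent.ComplFormalH7 (PU tR sm sm_natural)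

attribute [local instance] HasFiniteBiproducts.of_hasFiniteProducts

variable {A : Type u} [CommRing A] {J : Ideal A} {X : Scheme.{u}}
  [X.Over (Spec (CommRingCat.of A))] {G : ℕᵒᵖ ⥤ X.Modules} (hG : IsSys J G)

set_option maxHeartbeats 800000 in
/-- Splitting from local divisibility. -/
theorem isSplit_of_gen
    (h : ∀ n, ∃ (r : ℕ) (a : Fin r → ↥(J ^ (n + 1))) (e : Fin r → Fin r → A) (m : ℕ) (τ : Fin m → A),
      (∀ x z, (M1.stalkAb x).map (gm G (Nat.le_succ n)) z = 0 →
        ∃ w : Fin r → (M1.stalkAb x).obj (G.obj (op (n + 1))), z = ∑ j, sm _ (a j : A) x (w j)) ∧ (∀ j, ((a j : A) - ∑ i, e i j * (a i : A)) ∈ J ^ (n + 2)) ∧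
      (∀ l, τ l ∈ J) ∧ ∀ i x, IsDiv (fun j => (a j : A)) (e i) τ (G.obj (op (n + 1))) x) : IsSplit hG := by
  intro n
  obtain ⟨r, a, e, m, τ, hgen, he, hτ, hdiv⟩ := h n
  let Gn := G.obj (op (n + 1))
  let g := gm G (Nat.le_succ n)
  let g0 : Gn ⟶ G.obj (op 0) := gm G (Nat.zero_le (n + 1))
  let pr : ∀ _ : Fin r, (⨁ fun _ : Fin r => Gn) ⟶ Gn := biproduct.π _
  let b : (⨁ fun _ : Fin r => Gn) ⟶ Gn := ∑ j, pr j ≫ Formal.smulMod A Gn (a j : A)
  have hb : b ≫ g = 0 := by
    rw [Preadditive.sum_comp]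
    exact Finset.sum_eq_zero fun j _ => by
      rw [Category.assoc, (hG.quot_gm (Nat.le_succ n)).smul _ (a j).2, comp_zero]
  let q : (⨁ fun _ : Fin r => Gn) ⟶ kernel g := kernel.lift g b hb
  haveI : Epi g := (hG.quot_gm _).epi
  have hSexact : (ShortComplex.mk b g hb).Exact := (M1.exact_iff_stalk_eq_zero _).2 fun x z hz => by
    obtain ⟨w, rfl⟩ := hgen x z hz
    refine ⟨∑ j, (M1.stalkAb x).map (biproduct.ι (fun _ : Fin r => Gn) j) (w j), ?_⟩
    rw [map_sum]
    refine Finset.sum_congr rfl fun j _ => ?_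
    rw [← ConcreteCategory.comp_apply, ← Functor.map_comp]
    show (M1.stalkAb x).map (biproduct.ι (fun _ : Fin r => Gn) j ≫ b) (w j) = _
    simp only [b, Preadditive.comp_sum]
    rw [Finset.sum_eq_single j (fun i _ hi => by
      rw [biproduct.ι_π_ne_assoc _ hi.symm, zero_comp]) (fun h => absurd (Finset.mem_univ j) h),
      biproduct.ι_π_self_assoc]
  haveI : Epi q := hSexact.epi_kernelLift
  let ψ : Fin r → ((⨁ fun _ : Fin r => Gn) ⟶ G.obj (op 0)) := fun i =>
    ∑ j, pr j ≫ Formal.smulMod A Gn (e i j) ≫ g0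
  have hψ : ∀ i, kernel.ι q ≫ ψ i = 0 := fun i => eq_zero_of_stalk _ fun x u => by
    rw [Functor.map_comp, ConcreteCategory.comp_apply]
    let Z := (M1.stalkAb x).map (kernel.ι q) u
    show (M1.stalkAb x).map (ψ i) Z = 0
    obtain ⟨w, hw⟩ := hdiv i x (fun j => (M1.stalkAb x).map (pr j) Z) (by
      have h0 : (M1.stalkAb x).map b Z = 0 := by
        show (M1.stalkAb x).map b ((M1.stalkAb x).map (kernel.ι q) u) = 0
        rw [← ConcreteCategory.comp_apply, ← Functor.map_comp, show kernel.ι q ≫ b = 0 by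
          rw [← kernel.lift_ι g b hb, ← Category.assoc]
          erw [kernel.condition, zero_comp], Functor.map_zero]
        rfl
      refine Eq.trans ?_ h0
      simp only [b]
      rw [Functor.map_sum, stalk_hom_sum]
      exact Finset.sum_congr rfl fun j _ => by rw [Functor.map_comp]; rfl)
    have h1 : (M1.stalkAb x).map (ψ i) Z =
        (M1.stalkAb x).map g0 (∑ j, sm Gn (e i j) x ((M1.stalkAb x).map (pr j) Z)) := by
      simp only [ψ]
      rw [Functor.map_sum, stalk_hom_sum, map_sum]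
      exact Finset.sum_congr rfl fun j _ => by rw [Functor.map_comp, Functor.map_comp]; rfl
    rw [h1, hw, map_sum]
    refine Finset.sum_eq_zero fun l _ => ?_
    rw [sm_natural, sm, hG.killed 0 (τ l) (by rw [zero_add, pow_one]; exact hτ l), Functor.map_zero]
    rfl
  refine ⟨r, a, fun i => Abelian.epiDesc q (ψ i) (hψ i), ?_⟩
  rw [← cancel_epi q, Preadditive.comp_sum, kernel.lift_ι]
  have hterm : ∀ i, q ≫ Abelian.epiDesc q (ψ i) (hψ i) ≫ jm hG (Nat.zero_le (n + 1)) (le_refl (n + 1)) (a i) =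
      ∑ j, pr j ≫ Formal.smulMod A Gn (e i j * (a i : A)) := fun i => by
    rw [← Category.assoc, Abelian.comp_epiDesc]
    simp only [ψ, Preadditive.sum_comp, Category.assoc]
    refine Finset.sum_congr rfl fun j _ => ?_
    rw [gm_jm, ← FormalH7.smulMod_mul]
    first | rfl | rw [mul_comm]
  rw [Finset.sum_congr rfl fun i _ => hterm i, Finset.sum_comm]
  refine Finset.sum_congr rfl fun j _ => ?_
  rw [← Preadditive.comp_sum, ← FormalExtH7.smulMod_sum]
  congr 1
  have h0 := hG.killed (n + 1) _ (he j)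
  conv_rhs => rw [← sub_add_cancel (a j : A) (∑ i, e i j * (a i : A)), GExistH7.smulMod_add, h0, zero_add]

end Groth.Agent.NFlatFormalH7
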