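import Groth.Agent.Lib.NFlatFormalH7.Main
import Groth.Agent.Lib.NFlatFormalH7.HomBij
import Groth.Agent.Lib.NFlatFormalH7.Graded

/-!
# Effective Lefschetz conditions along ideals with flat graded pieces
-/

set_option autoImplicit false
set_option linter.style.haveILetI false

universe u

open CategoryTheory AlgebraicGeometry

noncomputable section

namespace Groth.Agent.NFlatFormalH7

open Groth.Agent

/-- Depth at least three gives the effective Lefschetz conditions. -/
theorem lef_and_algebraization {A : Type u} [CommRing A] [IsNoetherianRing A] {I J : Ideal A} [IsAdicComplete J A]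
    (hflat : ∀ n : ℕ, Module.Flat (A ⧸ J) (↥(J ^ n) ⧸ (J • (⊤ : Submodule A ↥(J ^ n)))))
    (hd : (3 : ℕ∞) ≤ LocCoh.idealDepth I (A ⧸ J))
    {U : (Spec (CommRingCat.of A)).Opens} (hU : U = LocCoh.puncturedOpen A I) :
    (∀ D : (↑U : Scheme.{u}).Modules, FlatMod.IsFinLocFree D →
      Lef.HomToFormalBijective ((Spec.map (CommRingCat.ofHom (Ideal.Quotient.mk J))).ker.comap U.ι) D) ∧
    ∀ 𝔐 : FSch.ModSys (FSch.completionAlong (↑U : Scheme.{u})
      ((Spec.map (CommRingCat.ofHom (Ideal.Quotient.mk J))).ker.comap U.ι)), LefX.LevelwiseFinLocFree 𝔐 →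
      ∃ F : (↑U : Scheme.{u}).Modules, Coh.IsCoh F ∧
        Nonempty (FSch.completionMod ((Spec.map (CommRingCat.ofHom (Ideal.Quotient.mk J))).ker.comap U.ι) F ≅ 𝔐) := by
  subst hU
  have hd' : ((3 : ℕ) : ℕ∞) ≤ LocCoh.idealDepth I (A ⧸ J) := hd
  have hv : ∀ i < 3, Subsingleton (LocCoh.H I i (A ⧸ J)) := fun i hi => subsingleton_H_of_idealDepth I _ hd' i hi
  exact ⟨fun D hD => homToFormal_of_locFree _ rfl
      (fun n => ⟨subsingleton_H_pow I J hflat 0 (hv 0 (by norm_num)) (n + 1),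
        subsingleton_H_pow I J hflat 1 (hv 1 (by norm_num)) (n + 1)⟩) D hD,
    fun 𝔐 h𝔐 => exists_completionMod_iso hflat
      (fun i hi => finite_H_of_idealDepth I _ hd' i (Nat.lt_succ_of_le hi)) rfl 𝔐 h𝔐⟩

end Groth.Agent.NFlatFormalH7
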