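import Groth.Agent.Lib.GExistH7.Sys
import Groth.Agent.Lib.CurveCoh17.LES
import Groth.Agent.Lib.CurveCoh17.Section
import Groth.Agent.Lib.DVRTriv4.Seq
import Groth.Agent.Lib.FormalH7.ModLim

/-!
# Multiplication maps between the levels of a system along an ideal
-/

set_option autoImplicit false
set_option linter.style.haveILetI false
set_option backward.isDefEq.respectTransparency false

universe u

open CategoryTheory CategoryTheory.Limits AlgebraicGeometry Opposite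

noncomputable section

namespace Groth.Agent.NFlatFormalH7

open Groth.Agent Groth.Agent.GExistH7 Groth.Agent.FormalH7

variable {A : Type u} [CommRing A] {X : Scheme.{u}} [X.Over (Spec (CommRingCat.of A))] {J : Ideal A}
  {G : ℕᵒᵖ ⥤ X.Modules} (hG : IsSys J G)

include hG in
theorem exists_jm {m M q : ℕ} (hm : m ≤ M) (hq : M ≤ q + m) (a : ↥(J ^ q)) :
    ∃ j : G.obj (op m) ⟶ G.obj (op M), gm G hm ≫ j = Formal.smulMod A _ (a : A) := by
  refine (hG.quot_gm hm).desc _ fun c hc => ?_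
  rw [← FormalH7.smulMod_mul]
  refine hG.killed M _ ?_
  have h := Ideal.mul_mem_mul a.2 hc
  rw [← pow_add] at h
  exact Ideal.pow_le_pow_right (by omega) h

/-- Multiplication by an element of a power of the ideal, from a lower level. -/
def jm {m M q : ℕ} (hm : m ≤ M) (hq : M ≤ q + m) (a : ↥(J ^ q)) : G.obj (op m) ⟶ G.obj (op M) :=
  (exists_jm hG hm hq a).choose

@[reassoc]
theorem gm_jm {m M q : ℕ} (hm : m ≤ M) (hq : M ≤ q + m) (a : ↥(J ^ q)) :
    gm G hm ≫ jm hG hm hq a = Formal.smulMod A _ (a : A) :=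
  (exists_jm hG hm hq a).choose_spec

theorem eq_jm {m M q : ℕ} (hm : m ≤ M) (hq : M ≤ q + m) (a : ↥(J ^ q)) (j : G.obj (op m) ⟶ G.obj (op M))
    (hj : gm G hm ≫ j = Formal.smulMod A _ (a : A)) : j = jm hG hm hq a :=
  (hG.quot_gm hm).hom_ext (hj.trans (gm_jm hG hm hq a).symm)

theorem jm_congr {m M q q' : ℕ} (hm : m ≤ M) (hq : M ≤ q + m) (hq' : M ≤ q' + m) (a : ↥(J ^ q)) (a' : ↥(J ^ q'))
    (h : (a : A) = a') : jm hG hm hq a = jm hG hm hq' a' :=
  eq_jm hG hm hq' a' _ (by rw [gm_jm, h])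

theorem jm_comp {m M P q r s : ℕ} (hm : m ≤ M) (hM : M ≤ P) (hq : M ≤ q + m) (hr : P ≤ r + M) (hs : P ≤ s + m)
    (a : ↥(J ^ q)) (b : ↥(J ^ r)) (c : ↥(J ^ s)) (h : (c : A) = (b : A) * a) :
    jm hG hm hq a ≫ jm hG hM hr b = jm hG (hm.trans hM) hs c := by
  refine eq_jm hG _ hs c _ ?_
  rw [← gm_comp G hm hM, Category.assoc, gm_jm_assoc, smulMod_naturality, gm_jm_assoc,
    ← FormalH7.smulMod_mul, h, mul_comm]

theorem jm_gm_eq_zero {m M q n : ℕ} (hm : m ≤ M) (hq : M ≤ q + m) (hn : n ≤ M) (a : ↥(J ^ q))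
    (h : n + 1 ≤ q) : jm hG hm hq a ≫ gm G hn = 0 :=
  (hG.quot_gm hm).hom_ext (by
    rw [gm_jm_assoc, comp_zero, smulMod_naturality, hG.killed n _ (Ideal.pow_le_pow_right h a.2), comp_zero])

theorem jm_self {M q : ℕ} (hq : M ≤ q + M) (a : ↥(J ^ q)) : jm hG (le_refl M) hq a = Formal.smulMod A _ (a : A) :=
  (eq_jm hG _ hq a _ (by rw [gm_refl, Category.id_comp])).symm

theorem jm_add {m M q : ℕ} (hm : m ≤ M) (hq : M ≤ q + m) (a b : ↥(J ^ q)) :
    jm hG hm hq (a + b) = jm hG hm hq a + jm hG hm hq b :=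
  (eq_jm hG hm hq (a + b) _ (by
    rw [Preadditive.comp_add, gm_jm, gm_jm, Submodule.coe_add, GExistH7.smulMod_add])).symm

theorem jm_smul {m M q : ℕ} (hm : m ≤ M) (hq : M ≤ q + m) (c : A) (a : ↥(J ^ q)) :
    jm hG hm hq (c • a) = Formal.smulMod A _ c ≫ jm hG hm hq a :=
  (eq_jm hG hm hq (c • a) _ (by
    rw [smulMod_naturality, gm_jm_assoc, Submodule.coe_smul, smul_eq_mul, FormalH7.smulMod_mul])).symm

theorem hmap_add {M N : X.Modules} (φ ψ : M ⟶ N) (p : ℕ) (x : Coh.HH X M p) :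
    CurveCoh17.hmap A (φ + ψ) p x = CurveCoh17.hmap A φ p x + CurveCoh17.hmap A ψ p x :=
  CurveCoh17.hmap₀_add φ ψ p x

theorem hmap_sum {M N : X.Modules} {ι : Type*} (s : Finset ι) (φ : ι → (M ⟶ N)) (p : ℕ) (x : Coh.HH X M p) :
    CurveCoh17.hmap A (∑ i ∈ s, φ i) p x = ∑ i ∈ s, CurveCoh17.hmap A (φ i) p x := by
  classical
  induction s using Finset.induction_on with
  | empty => rw [Finset.sum_empty, Finset.sum_empty, CurveCoh17.hmap_zero]
  | insert i s hi ih => rw [Finset.sum_insert hi, Finset.sum_insert hi, hmap_add, ih]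

/-- The maps from the bottom level, on cohomology, linearly in the multiplier. -/
def mL (p : ℕ) {M q : ℕ} (hq : M ≤ q + 0) : ↥(J ^ q) →ₗ[A] Coh.HH X (G.obj (op 0)) p →ₗ[A] Coh.HH X (G.obj (op M)) p where
  toFun a := CurveCoh17.hmap A (jm hG (Nat.zero_le M) hq a) p
  map_add' a b := LinearMap.ext fun x => by rw [jm_add, hmap_add]; rfl
  map_smul' c a := LinearMap.ext fun x => by
    rw [jm_smul, CurveCoh17.hmap_comp, DVRTriv4.hmap_smulMod, map_smul]
    rfl

/-- The maps from the bottom level into the kernel of a projection. -/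
def jmK {m M q n : ℕ} (hm : m ≤ M) (hq : M ≤ q + m) (hn : n ≤ M) (a : ↥(J ^ q)) (h : n + 1 ≤ q) :
    G.obj (op m) ⟶ kernel (gm G hn) :=
  kernel.lift _ (jm hG hm hq a) (jm_gm_eq_zero hG hm hq hn a h)

@[reassoc]
theorem jmK_ι {m M q n : ℕ} (hm : m ≤ M) (hq : M ≤ q + m) (hn : n ≤ M) (a : ↥(J ^ q)) (h : n + 1 ≤ q) :
    jmK hG hm hq hn a h ≫ kernel.ι (gm G hn) = jm hG hm hq a :=
  kernel.lift_ι _ _ _

/-- The maps into the kernel, on cohomology, linearly in the multiplier. -/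
def kL (p : ℕ) {M q n : ℕ} (hq : M ≤ q + 0) (hn : n ≤ M) (h : n + 1 ≤ q) :
    ↥(J ^ q) →ₗ[A] Coh.HH X (G.obj (op 0)) p →ₗ[A] Coh.HH X (kernel (gm G hn)) p where
  toFun a := CurveCoh17.hmap A (jmK hG (Nat.zero_le M) hq hn a h) p
  map_add' a b := LinearMap.ext fun x => by
    rw [show jmK hG (Nat.zero_le M) hq hn (a + b) h =
      jmK hG (Nat.zero_le M) hq hn a h + jmK hG (Nat.zero_le M) hq hn b h from
      (cancel_mono (kernel.ι (gm G hn))).1 (by rw [Preadditive.add_comp, jmK_ι, jmK_ι, jmK_ι, jm_add]), hmap_add]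
    rfl
  map_smul' c a := LinearMap.ext fun x => by
    rw [show jmK hG (Nat.zero_le M) hq hn (c • a) h =
      Formal.smulMod A _ c ≫ jmK hG (Nat.zero_le M) hq hn a h from
      (cancel_mono (kernel.ι (gm G hn))).1 (by rw [Category.assoc, jmK_ι, jmK_ι, jm_smul]),
      CurveCoh17.hmap_comp, DVRTriv4.hmap_smulMod, map_smul]
    rfl

end Groth.Agent.NFlatFormalH7
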