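import Groth.Agent.Lib.NFlatFormalH7.Tower
import Groth.Agent.Lib.NFlatFormalH7.GenSplit
import Groth.Prelude.Def_Algz2

/-!
# Completed stalks of systems
-/

set_option autoImplicit false
set_option linter.style.haveILetI false
set_option backward.isDefEq.respectTransparency false
set_option backward.isDefEq.respectTransparency.types false

universe u

open CategoryTheory CategoryTheory.Limits AlgebraicGeometry Opposite

noncomputable section

namespace Groth.Agent.NFlatFormalH7

open Groth.Agent Groth.Agent.GExistH7 Groth.Agent.FormalH7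
open Groth.Agent.ComplFormalH7 (sm)

attribute [local instance] HasFiniteBiproducts.of_hasFiniteProducts

variable {A : Type u} [CommRing A] {J : Ideal A} {X : Scheme.{u}} [X.Over (Spec (CommRingCat.of A))]
  {G : ℕᵒᵖ ⥤ X.Modules}

/-- Multiplication on stalks is multiplication by the germ. -/
theorem sm_eq (M : X.Modules) (a : A) (y : X) (z : M.presheaf.stalk y) :
    sm M a y z = Algz.toStalk A X y a • z := by
  refine (FormalH7.stalk_smulMod M a y z).trans ?_
  congr 1
  exact X.presheaf.germ_res_apply (homOfLE (le_top : (⊤ : X.Opens) ≤ ⊤)) y trivial _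

/-- Stalks at the level. -/
abbrev St (G : ℕᵒᵖ ⥤ X.Modules) (y : X) (n : ℕ) : Type u := (G.obj (op n)).presheaf.stalk y

/-- Transition maps on stalks. -/
abbrev gL (G : ℕᵒᵖ ⥤ X.Modules) (y : X) {n m : ℕ} (h : n ≤ m) :
    St G y m →ₗ[X.presheaf.stalk y] St G y n := Algz.stalkMapₗ (gm G h) y

theorem gL_gL (y : X) {n m k : ℕ} (h : n ≤ m) (h' : m ≤ k) (z : St G y k) :
    gL G y h (gL G y h' z) = gL G y (h.trans h') z := by
  show (M1.stalkAb y).map (gm G h) ((M1.stalkAb y).map (gm G h') z) = (M1.stalkAb y).map (gm G (h.trans h')) z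
  rw [← ConcreteCategory.comp_apply, ← Functor.map_comp, gm_comp]

theorem gL_refl (y : X) {n : ℕ} (z : St G y n) : gL G y (le_refl n) z = z := by
  show (M1.stalkAb y).map (gm G (le_refl n)) z = z
  rw [gm_refl, CategoryTheory.Functor.map_id]
  rfl

variable (hG : IsSys J G)
include hG

theorem gL_surjective (y : X) {n m : ℕ} (h : n ≤ m) : Function.Surjective (gL G y h) := by
  haveI := (hG.quot_gm h).epi
  exact (M1.epi_iff_stalk (gm G h)).1 inferInstance y

theorem smul_stalk_eq_zero (y : X) (n : ℕ) (c : X.presheaf.stalk y) (hc : c ∈ Algz.stalkIdeal J y ^ (n + 1))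
    (z : St G y n) : c • z = 0 := by
  rw [Algz.stalkIdeal, ← Ideal.map_pow] at hc
  induction hc using Submodule.span_induction with
  | mem c hc =>
    obtain ⟨a, ha, rfl⟩ := hc
    rw [← sm_eq]
    show (M1.stalkAb y).map (Formal.smulMod A _ a) z = 0
    rw [hG.killed n a ha, Functor.map_zero]
    rfl
  | zero => rw [zero_smul]
  | add a b _ _ ha hb => rw [add_smul, ha, hb, add_zero]
  | smul r a _ ha => rw [smul_eq_mul, mul_smul, ha, smul_zero]

/-- The kernels of the projections are generated by the power. -/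
theorem exists_eq_sum_of_gm_eq_zero {n m : ℕ} (h : n ≤ m) {r : ℕ} (a : Fin r → A)
    (ha : Ideal.span (Set.range a) = J ^ (n + 1)) (y : X) (z : St G y m) (hz : gL G y h z = 0) :
    ∃ w : Fin r → St G y m, z = ∑ j, sm _ (a j) y (w j) := by
  let Gn := G.obj (op m)
  let pr : ∀ _ : Fin r, (⨁ fun _ : Fin r => Gn) ⟶ Gn := biproduct.π _
  let b : (⨁ fun _ : Fin r => Gn) ⟶ Gn := ∑ j, pr j ≫ Formal.smulMod A Gn (a j)
  haveI : Epi (gm G h) := (hG.quot_gm h).epi
  have hb : b ≫ gm G h = 0 := by
    rw [Preadditive.sum_comp]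
    exact Finset.sum_eq_zero fun j _ => by
      rw [Category.assoc, (hG.quot_gm h).smul _ (ha ▸ Ideal.subset_span (Set.mem_range_self j)), comp_zero]
  have hex : (ShortComplex.mk b (gm G h) hb).Exact := by
    apply ShortComplex.exact_of_g_is_cokernel
    refine CokernelCofork.IsColimit.ofπ' _ _ fun {T} φ hφ => ?_
    have hk : ∀ c : A, c ∈ J ^ (n + 1) → Formal.smulMod A Gn c ≫ φ = 0 := by
      intro c hc
      rw [← ha] at hc
      refine GExistH7.smul_span_comp_eq_zero φ ?_ c hc
      rintro _ ⟨j, rfl⟩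
      have := congrArg (biproduct.ι (fun _ : Fin r => Gn) j ≫ ·) hφ
      simp only [b, Preadditive.sum_comp, Preadditive.comp_sum, comp_zero, Category.assoc] at this
      rw [Finset.sum_eq_single j (fun i _ hi => by
        rw [biproduct.ι_π_ne_assoc _ hi.symm, zero_comp]) (fun h => absurd (Finset.mem_univ j) h)] at this
      rwa [biproduct.ι_π_self_assoc] at this
    exact ⟨((hG.quot_gm h).desc φ hk).choose, ((hG.quot_gm h).desc φ hk).choose_spec⟩
  obtain ⟨W, hW⟩ := (M1.exact_iff_stalk_eq_zero _).1 hex y z hz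
  refine ⟨fun j => (M1.stalkAb y).map (pr j) W, hW.symm.trans ?_⟩
  simp only [b]
  rw [Functor.map_sum, stalk_hom_sum]
  exact Finset.sum_congr rfl fun j _ => by rw [Functor.map_comp]; rfl

variable [IsNoetherianRing A]

theorem mem_smul_of_gL_eq_zero (y : X) {n m : ℕ} (h : n ≤ m) (z : St G y m) (hz : gL G y h z = 0) :
    z ∈ Algz.stalkIdeal J y ^ (n + 1) • (⊤ : Submodule (X.presheaf.stalk y) (St G y m)) := by
  obtain ⟨r, a, ha⟩ := Submodule.fg_iff_exists_fin_generating_family.1 (IsNoetherian.noetherian (J ^ (n + 1)))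
  obtain ⟨w, rfl⟩ := exists_eq_sum_of_gm_eq_zero hG h a ha y z hz
  refine Submodule.sum_mem _ fun j _ => ?_
  rw [sm_eq, Algz.stalkIdeal, ← Ideal.map_pow]
  exact Submodule.smul_mem_smul (Ideal.mem_map_of_mem _ (ha ▸ Submodule.subset_span (Set.mem_range_self j))) trivial

omit hG in
/-- Compatible families of stalks. -/
abbrev stFam (G : ℕᵒᵖ ⥤ X.Modules) (y : X) : Submodule (X.presheaf.stalk y) (∀ n, St G y n) :=
  towLim (M := St G y) (fun {_ _} h => gL G y h)

omit [IsNoetherianRing A] in
/-- The completed stalk is the module of compatible families. -/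
theorem nonempty_hatStalk_equiv (y : X) :
    Nonempty (stFam G y ≃ₗ[X.presheaf.stalk y] ↥(Algz.hatStalk J G y)) := by
  have hb : ∀ n, Function.Bijective (AdicCompletion.of (Algz.stalkIdeal J y) (St G y n)) := fun n =>
    bijective_adicCompletion_of _ (n + 1) (smul_stalk_eq_zero hG y n)
  have hnat : ∀ n (x : St G y (n + 1)), Algz.hatTrans J G y n (AdicCompletion.of _ _ x) =
      AdicCompletion.of _ _ (gL G y (Nat.le_succ n) x) := fun n x => AdicCompletion.map_of _ _ x
  let f : stFam G y →ₗ[X.presheaf.stalk y] ↥(Algz.hatStalk J G y) :=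
    { toFun := fun s => ⟨fun n => AdicCompletion.of (Algz.stalkIdeal J y) (St G y n) (s.1 n), fun n =>
        (hnat n (s.1 (n + 1))).trans (congrArg _ (s.2 n))⟩
      map_add' := fun s t => Subtype.ext (funext fun n => map_add _ _ _)
      map_smul' := fun c s => by
        refine Subtype.ext (funext fun n => ?_)
        show AdicCompletion.of (Algz.stalkIdeal J y) (St G y n) (c • s.1 n) = c • AdicCompletion.of (Algz.stalkIdeal J y) (St G y n) (s.1 n)
        exact map_smul (AdicCompletion.of (Algz.stalkIdeal J y) (St G y n)) c (s.1 n) }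
  refine ⟨LinearEquiv.ofBijective f ⟨fun s t hst => Subtype.ext (funext fun n => (hb n).1 ?_), fun v => ?_⟩⟩
  · exact congrFun (congrArg Subtype.val hst) n
  · choose w hw using fun n => (hb n).2 (v.1 n)
    refine ⟨⟨w, fun n => (hb n).1 ?_⟩, Subtype.ext (funext hw)⟩
    rw [← hnat, hw, hw]
    exact v.2 n

/-- Divisibility on stalks from divisibility on completed stalks. -/
theorem isDiv_of_families (y : X) (N : ℕ) {r m : ℕ} (a e : Fin r → A) (τ : Fin m → A)
    (hτ : Ideal.span (Set.range τ) = J)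
    (hP : ∀ Z : Fin r → stFam G y,
      ∑ j, Algz.toStalk A X y (a j) • Z j ∈ Algz.stalkIdeal J y ^ (N + 1) • (⊤ : Submodule (X.presheaf.stalk y) (stFam G y)) →
      ∑ j, Algz.toStalk A X y (e j) • Z j ∈ Algz.stalkIdeal J y • (⊤ : Submodule (X.presheaf.stalk y) (stFam G y))) :
    IsDiv a e τ (G.obj (op N)) y := by
  intro z hz
  choose Z hZ using fun j => exists_towLim (fun {_ _} h => gL G y h) (fun {_ _ _} h h' x => gL_gL y h h' x)
    (fun {_} x => gL_refl y x) (fun {_ _} h => gL_surjective hG y h) (show St G y N from z j)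
  have hfg : ∀ n : ℕ, (Algz.stalkIdeal J y ^ n).FG := fun n => by
    rw [Algz.stalkIdeal, ← Ideal.map_pow]
    exact Ideal.FG.map (IsNoetherian.noetherian (J ^ n)) _
  have hS := mem_smul_of_level_eq_zero (fun {_ _} h => gL G y h) (fun {_ _ _} h h' x => gL_gL y h h' x)
    (fun {_} x => gL_refl y x) (fun {_ _} h => gL_surjective hG y h) (smul_stalk_eq_zero hG y)
    (fun {_ _} h x hx => mem_smul_of_gL_eq_zero hG y h x hx) hfg N (∑ j, Algz.toStalk A X y (a j) • Z j) (by
      simp only [Submodule.coe_sum, Finset.sum_apply, Submodule.coe_smul, Pi.smul_apply, hZ, ← sm_eq]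
      exact hz)
  let p : stFam G y →ₗ[X.presheaf.stalk y] St G y N := LinearMap.proj N ∘ₗ (stFam G y).subtype
  have h1 := Submodule.mem_map_of_mem (f := p) (hP Z hS)
  rw [Submodule.map_smul'', map_sum] at h1
  have h2 : (∑ j, (show St G y N from sm (G.obj (op N)) (e j) y (z j))) ∈
      Algz.stalkIdeal J y • (⊤ : Submodule (X.presheaf.stalk y) (St G y N)) := by
    refine Submodule.smul_mono le_rfl (le_top (a := Submodule.map p ⊤)) ?_
    convert h1 using 1
    refine Finset.sum_congr rfl fun j _ => ?_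
    rw [sm_eq]
    show _ = Algz.toStalk A X y (e j) • ((Z j).1 N)
    rw [hZ]
  rw [Algz.stalkIdeal, ← hτ, Ideal.map_span, ← Set.range_comp] at h2
  obtain ⟨w, hw⟩ := exists_sum_of_mem_span_smul h2
  exact ⟨w, hw.trans (Finset.sum_congr rfl fun l _ => (sm_eq _ (τ l) y (w l)).symm)⟩

end Groth.Agent.NFlatFormalH7
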