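import Groth.Agent.Lib.NFlatFormalH7.Extend
import Groth.Agent.Lib.NFlatFormalH7.Stalks

/-!
# Local criteria for canonical extensions
-/

set_option autoImplicit false
set_option linter.style.haveILetI false
set_option backward.isDefEq.respectTransparency false
set_option backward.isDefEq.respectTransparency.types false

universe u

open CategoryTheory CategoryTheory.Limits AlgebraicGeometry Opposite

noncomputable section

namespace Groth.Agent.NFlatFormalH7

open Groth.Agent Groth.Agent.GExistH7 Groth.Agent.FormalH7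
open Groth.Agent.ComplFormalH7 (PU sm)

attribute [local instance] HasFiniteBiproducts.of_hasFiniteProducts

variable {A : Type u} [CommRing A] {I J : Ideal A}

/-- Elements outside the prime of a point are units in the stalk. -/
theorem isUnit_toStalk (y : PU I) (c : A)
    (hc : c ∉ ((LocCoh.puncturedOpen A I).ι.base y : PrimeSpectrum A).asIdeal) :
    IsUnit (Algz.toStalk A (PU I) y c) := by
  have h1 : (LocCoh.puncturedOpen A I).ι.base y ∈
      (Spec (CommRingCat.of A)).basicOpen ((Scheme.ΓSpecIso (CommRingCat.of A)).inv c) := by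
    rw [basicOpen_eq_of_affine]
    exact hc
  have h2 : y ∈ (LocCoh.puncturedOpen A I).ι ⁻¹ᵁ
      (Spec (CommRingCat.of A)).basicOpen ((Scheme.ΓSpecIso (CommRingCat.of A)).inv c) := h1
  rw [Scheme.Hom.preimage_basicOpen_top, Scheme.mem_basicOpen_top] at h2
  exact h2

variable {G : ℕᵒᵖ ⥤ (PU I).Modules} (hG : IsSys J G)
include hG

/-- Stalks off the closed set vanish. -/
theorem subsingleton_St (y : PU I)
    (hy : (LocCoh.puncturedOpen A I).ι.base y ∉ PrimeSpectrum.zeroLocus (R := A) (J : Set A)) (n : ℕ) :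
    Subsingleton (St G y n) := by
  obtain ⟨c, hcJ, hc⟩ := Set.not_subset.1 hy
  have hu : IsUnit (Algz.toStalk A (PU I) y c ^ (n + 1)) := (isUnit_toStalk y c hc).pow _
  refine subsingleton_of_forall_eq 0 fun z => hu.smul_eq_zero.1 ?_
  exact smul_stalk_eq_zero hG y n _ (Ideal.pow_mem_pow (Ideal.mem_map_of_mem _ hcJ) _) z

/-- Canonical extension from generators of the powers at the points. -/
theorem canonicallyExtends_of_stalks [IsNoetherianRing A]
    (h : ∀ n : ℕ, ∃ (r : ℕ) (a : Fin r → A) (e : Fin r → Fin r → A),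
      (∀ j, a j ∈ J ^ (n + 1)) ∧ (∀ j, a j - ∑ i, e i j * a i ∈ J ^ (n + 2)) ∧
      ∀ y : PU I, (LocCoh.puncturedOpen A I).ι.base y ∈ PrimeSpectrum.zeroLocus (R := A) (J : Set A) →
        Algz.stalkIdeal J y ^ (n + 1) ≤ Ideal.span (Set.range fun j => Algz.toStalk A (PU I) y (a j)) ∧
        ∀ (i : Fin r) (Z : Fin r → stFam G y),
          ∑ j, Algz.toStalk A (PU I) y (a j) • Z j ∈
              Algz.stalkIdeal J y ^ (n + 1 + 1) • (⊤ : Submodule ((PU I).presheaf.stalk y) (stFam G y)) →
          ∑ j, Algz.toStalk A (PU I) y (e i j) • Z j ∈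
              Algz.stalkIdeal J y • (⊤ : Submodule ((PU I).presheaf.stalk y) (stFam G y)))
    (h0 : Module.Finite A (Coh.HH (PU I) (G.obj (op 0)) 0))
    (h1 : Module.Finite A (Coh.HH (PU I) (G.obj (op 0)) 1)) :
    Algz.CanonicallyExtends A J (LocCoh.puncturedOpen A I) G := by
  refine canonicallyExtends_of_split hG (isSplit_of_gen hG fun n => ?_) h0 h1
  obtain ⟨r, a, e, ha, he, hloc⟩ := h n
  obtain ⟨m, τ, hτ⟩ := Submodule.fg_iff_exists_fin_generating_family.1 (IsNoetherian.noetherian J)
  refine ⟨r, fun j => ⟨a j, ha j⟩, e, m, τ, fun x z hz => ?_, he,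
    fun l => hτ ▸ Submodule.subset_span (Set.mem_range_self l), fun i x => ?_⟩
  · by_cases hx : (LocCoh.puncturedOpen A I).ι.base x ∈ PrimeSpectrum.zeroLocus (R := A) (J : Set A)
    · have h2 : (show St G x (n + 1) from z) ∈ Ideal.span (Set.range fun j => Algz.toStalk A (PU I) x (a j)) •
          (⊤ : Submodule ((PU I).presheaf.stalk x) (St G x (n + 1))) :=
        Submodule.smul_mono (hloc x hx).1 le_rfl (mem_smul_of_gL_eq_zero hG x (Nat.le_succ n) z hz)
      obtain ⟨w, hw⟩ := exists_sum_of_mem_span_smul h2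
      exact ⟨w, hw.trans (Finset.sum_congr rfl fun j _ => (sm_eq _ (a j) x (w j)).symm)⟩
    · haveI := subsingleton_St hG x hx (n + 1)
      exact ⟨fun _ => 0, @Subsingleton.elim (St G x (n + 1)) _ _ _⟩
  · by_cases hx : (LocCoh.puncturedOpen A I).ι.base x ∈ PrimeSpectrum.zeroLocus (R := A) (J : Set A)
    · exact isDiv_of_families hG x (n + 1) a (e i) τ hτ ((hloc x hx).2 i)
    · intro z _
      haveI := subsingleton_St hG x hx (n + 1)
      exact ⟨fun _ => 0, @Subsingleton.elim (St G x (n + 1)) _ _ _⟩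

omit hG

/-- Ring homomorphisms commute with monomials. -/
theorem map_mon {R S : Type u} [CommRing R] [CommRing S] (ψ : R →+* S) :
    ∀ (d : ℕ) (f : Fin d → R) (n : ℕ) (i : Idx d n), ψ (mon d f n i) = mon d (ψ ∘ f) n i := by
  intro d
  induction d with
  | zero =>
    intro f n i
    cases n with
    | zero => exact map_one ψ
    | succ n => exact Empty.elim i
  | succ d ihd =>
    intro f n
    induction n with
    | zero => exact fun _ => map_one ψ
    | succ n ihn =>
      rintro (i | j)
      · exact ihd (f ∘ Fin.castSucc) (n + 1) i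
      · show ψ (f (Fin.last d) * mon (d + 1) f n j) = ψ (f (Fin.last d)) * mon (d + 1) (ψ ∘ f) n j
        rw [map_mul, ihn j]

/-- Weakly regular sequences, element by element. -/
theorem smul_mem_of_isWeaklyRegular {R M : Type u} [CommRing R] [AddCommGroup M] [Module R M] {d : ℕ}
    (f : Fin d → R) (hf : RingTheory.Sequence.IsWeaklyRegular M (List.ofFn f)) (i : Fin d) (x : M)
    (hx : f i • x ∈ Ideal.span (f '' {j | j < i}) • (⊤ : Submodule R M)) :
    x ∈ Ideal.span (f '' {j | j < i}) • (⊤ : Submodule R M) := by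
  have hspan : Ideal.ofList ((List.ofFn f).take i) = Ideal.span (f '' {j | j < i}) := by
    refine congrArg Ideal.span (Set.ext fun r => ?_)
    simp only [Set.mem_ofPred_eq, Set.mem_image, List.mem_take_iff_getElem, List.getElem_ofFn, List.length_ofFn]
    constructor
    · rintro ⟨j, hj, rfl⟩
      exact ⟨⟨j, by omega⟩, by simp only [Fin.lt_def]; omega, rfl⟩
    · rintro ⟨j, hj, rfl⟩
      exact ⟨j, by simp only [Fin.lt_def] at hj; omega, rfl⟩
  have h := hf.regular_mod_prev i (by simp)
  rw [← hspan] at hx ⊢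
  have h2 := @h (Submodule.Quotient.mk x) (Submodule.Quotient.mk 0) (by
    simp only [List.getElem_ofFn, ← Submodule.Quotient.mk_smul, smul_zero]
    rw [Submodule.Quotient.eq, sub_zero]
    exact hx)
  rw [Submodule.Quotient.eq, sub_zero] at h2
  exact h2

/-- Minimal generators of a finitely generated ideal in a local ring. -/
theorem exists_minimal_generators {R : Type u} [CommRing R] [IsLocalRing R] (K : Ideal R) (hK : K.FG) :
    ∃ (r : ℕ) (a : Fin r → R), Ideal.span (Set.range a) = K ∧
      ∀ c : Fin r → R, ∑ j, a j * c j ∈ IsLocalRing.maximalIdeal R * K →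
        ∀ i, c i ∈ IsLocalRing.maximalIdeal R := by
  classical
  have hex : ∃ r : ℕ, ∃ a : Fin r → R, Ideal.span (Set.range a) = K :=
    Submodule.fg_iff_exists_fin_generating_family.1 hK
  obtain ⟨a, ha⟩ := Nat.find_spec hex
  refine ⟨Nat.find hex, a, ha, fun c hc i => ?_⟩
  by_contra hi
  have hu : IsUnit (c i) := by
    by_contra h
    exact hi h
  obtain ⟨k, hk⟩ : ∃ k, Nat.find hex = k + 1 := ⟨Nat.find hex - 1, by have := i.2; omega⟩
  set Q := Ideal.span (a '' {j | j ≠ i}) with hQ
  have hle : K ≤ Q ⊔ IsLocalRing.maximalIdeal R • K := by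
    refine (ha.symm.trans_le (Ideal.span_le.2 ?_))
    rintro _ ⟨j, rfl⟩
    by_cases hj : j = i
    · rw [SetLike.mem_coe, hj, ← Ideal.mul_unit_mem_iff_mem _ hu]
      have hs : a i * c i = ∑ j, a j * c j - ∑ j ∈ Finset.univ.erase i, a j * c j := by
        rw [← Finset.add_sum_erase _ _ (Finset.mem_univ i), add_sub_cancel_right]
      rw [hs]
      refine sub_mem (Ideal.mem_sup_right (by rwa [smul_eq_mul])) (Ideal.mem_sup_left (Ideal.sum_mem _ fun j hj => ?_))
      exact Ideal.mul_mem_right _ _ (Ideal.subset_span ⟨j, Finset.ne_of_mem_erase hj, rfl⟩)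
    · exact Ideal.mem_sup_left (Ideal.subset_span ⟨j, hj, rfl⟩)
  have hKQ : K ≤ Q := Submodule.le_of_le_smul_of_le_jacobson_bot hK
    (IsLocalRing.maximalIdeal_le_jacobson ⊥) hle
  have hQK : Q = K := le_antisymm (ha ▸ Ideal.span_mono (Set.image_subset_range _ _)) hKQ
  refine Nat.find_min hex (show k < Nat.find hex by omega)
    ⟨fun l => a (Fin.cast hk.symm ((Fin.cast hk i).succAbove l)), ?_⟩
  refine Eq.trans ?_ hQK
  refine congrArg Ideal.span (Set.ext fun x => ?_)
  constructor
  · rintro ⟨l, rfl⟩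
    exact ⟨_, fun h => Fin.succAbove_ne (Fin.cast hk i) l (Fin.ext (congrArg (fun q : Fin (Nat.find hex) => (q : ℕ)) h)), rfl⟩
  · rintro ⟨j, hj, rfl⟩
    obtain ⟨l, hl⟩ := Fin.exists_succAbove_eq (show Fin.cast hk j ≠ Fin.cast hk i from fun h => hj (Fin.cast_injective hk h))
    exact ⟨l, congrArg a (by rw [hl]; rfl)⟩

/-- Extension and restriction of scalars for products with the whole module. -/
theorem mem_map_smul_top_iff {R S M : Type u} [CommRing R] [CommRing S] [Algebra R S] [AddCommGroup M]
    [Module R M] [Module S M] [IsScalarTower R S M] (K : Ideal R) (x : M) :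
    x ∈ K.map (algebraMap R S) • (⊤ : Submodule S M) ↔ x ∈ K • (⊤ : Submodule R M) := by
  rw [← Submodule.restrictScalars_mem R, Ideal.smul_restrictScalars, Submodule.restrictScalars_top]

end Groth.Agent.NFlatFormalH7
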