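import Mathlib.RingTheory.MvPolynomial.Homogeneous
import Mathlib.RingTheory.Polynomial.Basic
import Mathlib.RingTheory.TensorProduct.Finite

/-!
# Graded bookkeeping with polynomial coefficients for the powers of an ideal
-/

set_option autoImplicit false

universe u

open MvPolynomial TensorProduct

noncomputable section

namespace Groth.Agent.NFlatFormalH7

variable {A : Type u} [CommRing A] {σ : Type u} (τ : σ → A)

/-- The ideal generated by the family. -/
abbrev idl : Ideal A := Ideal.span (Set.range τ)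

theorem eval_mem_pow {N : ℕ} {p : MvPolynomial σ A} (hp : p.IsHomogeneous N) : eval τ p ∈ idl τ ^ N := by
  rw [p.as_sum, map_sum]
  refine Ideal.sum_mem _ fun e he => ?_
  rw [eval_monomial]
  refine Ideal.mul_mem_left _ _ ?_
  have hdeg : e.degree = N := by
    by_contra hne
    exact mem_support_iff.1 he (hp.coeff_eq_zero hne)
  rw [← hdeg, Finsupp.degree_apply, Finsupp.prod, ← Finset.prod_pow_eq_pow_sum]
  exact Ideal.prod_mem_prod fun i _ => Ideal.pow_mem_pow (Ideal.subset_span (Set.mem_range_self (f := τ) i)) _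

theorem exists_eval_eq {N : ℕ} {a : A} (ha : a ∈ idl τ ^ N) :
    ∃ p : MvPolynomial σ A, p.IsHomogeneous N ∧ eval τ p = a := by
  induction N generalizing a with
  | zero => exact ⟨C a, isHomogeneous_C _ a, eval_C a⟩
  | succ N ih =>
    rw [pow_succ] at ha
    refine Submodule.mul_induction_on ha (fun b hb c hc => ?_) ?_
    · obtain ⟨p, hp, rfl⟩ := ih hb
      induction hc using Submodule.span_induction with
      | mem c hc =>
        obtain ⟨i, rfl⟩ := hc
        exact ⟨p * X i, hp.mul (isHomogeneous_X _ i), by rw [map_mul, eval_X]⟩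
      | zero => exact ⟨0, isHomogeneous_zero _ _ _, by rw [map_zero, mul_zero]⟩
      | add c d _ _ hc hd =>
        obtain ⟨q, hq, hq'⟩ := hc
        obtain ⟨q', hq1, hq1'⟩ := hd
        exact ⟨q + q', hq.add hq1, by rw [map_add, hq', hq1', mul_add]⟩
      | smul r c _ hc =>
        obtain ⟨q, hq, hq'⟩ := hc
        exact ⟨C r * q, zero_add (N + 1) ▸ (isHomogeneous_C _ r).mul hq,
          by rw [map_mul, hq', eval_C, smul_eq_mul, mul_left_comm]⟩
    · rintro b c ⟨p, hp, rfl⟩ ⟨q, hq, rfl⟩
      exact ⟨p + q, hp.add hq, map_add _ _ _⟩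

/-- Evaluation of a homogeneous component. -/
def evL (N : ℕ) : MvPolynomial σ A →ₗ[A] ↥(idl τ ^ N) where
  toFun p := ⟨eval τ (homogeneousComponent N p), eval_mem_pow τ (homogeneousComponent_isHomogeneous N p)⟩
  map_add' p q := Subtype.ext (by simp only [map_add]; rfl)
  map_smul' c p := Subtype.ext (by
    simp only [smul_eq_C_mul, homogeneousComponent_C_mul, map_mul, eval_C]
    rfl)

theorem evL_val (N : ℕ) (p : MvPolynomial σ A) : (evL τ N p : A) = eval τ (homogeneousComponent N p) := rfl

theorem evL_of_homogeneous {N : ℕ} {p : MvPolynomial σ A} (hp : p.IsHomogeneous N) : (evL τ N p : A) = eval τ p := by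
  rw [evL_val, homogeneousComponent_of_mem hp, if_pos rfl]

theorem evL_of_ne {N M : ℕ} {p : MvPolynomial σ A} (hp : p.IsHomogeneous N) (h : M ≠ N) : evL τ M p = 0 :=
  Subtype.ext (by rw [evL_val, homogeneousComponent_of_mem hp, if_neg h, map_zero]; rfl)

theorem evL_of_totalDegree_lt {N : ℕ} {p : MvPolynomial σ A} (h : p.totalDegree < N) : evL τ N p = 0 :=
  Subtype.ext (by rw [evL_val, homogeneousComponent_eq_zero _ _ h, map_zero]; rfl)

theorem homogeneousComponent_homogeneous_mul {q : ℕ} {h : MvPolynomial σ A} (hh : h.IsHomogeneous q) (N : ℕ)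
    (p : MvPolynomial σ A) : homogeneousComponent N (h * p) = if q ≤ N then h * homogeneousComponent (N - q) p else 0 := by
  conv_lhs => rw [← sum_homogeneousComponent p, Finset.mul_sum, map_sum]
  have hc : ∀ i, homogeneousComponent N (h * homogeneousComponent i p) =
      if N = q + i then h * homogeneousComponent i p else 0 := fun i =>
    homogeneousComponent_of_mem (hh.mul (homogeneousComponent_isHomogeneous i p))
  simp only [hc]
  by_cases hq : q ≤ N
  · rw [if_pos hq]
    rw [Finset.sum_eq_single (N - q) (fun i _ hi => if_neg (by omega)) (fun hi => ?_)]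
    · rw [if_pos (by omega)]
    · rw [homogeneousComponent_eq_zero _ _ (by simp only [Finset.mem_range] at hi; omega), mul_zero, ite_self]
  · rw [if_neg hq]
    exact Finset.sum_eq_zero fun i _ => if_neg (by omega)

theorem evL_homogeneous_mul {q : ℕ} {h : MvPolynomial σ A} (hh : h.IsHomogeneous q) (N : ℕ) (p : MvPolynomial σ A) :
    (evL τ N (h * p) : A) = if q ≤ N then eval τ h * (evL τ (N - q) p : A) else 0 := by
  rw [evL_val, homogeneousComponent_homogeneous_mul hh]
  split_ifs
  · rw [map_mul, evL_val]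
  · rw [map_zero]

variable (H : Type u) [AddCommGroup H] [Module A H]

/-- Formal combinations of elements of `H` with polynomial coefficients. -/
abbrev PolyMod (σ : Type u) : Type u := MvPolynomial σ A ⊗[A] H

variable {H} {D D' : Type u} [AddCommGroup D] [Module A D] [AddCommGroup D'] [Module A D']

/-- Evaluation of the component of a given degree. -/
def phi {N : ℕ} (l : ↥(idl τ ^ N) →ₗ[A] H →ₗ[A] D) : PolyMod (A := A) H σ →ₗ[A] D :=
  TensorProduct.lift (l ∘ₗ evL τ N)

theorem phi_tmul {N : ℕ} (l : ↥(idl τ ^ N) →ₗ[A] H →ₗ[A] D) (p : MvPolynomial σ A) (h : H) :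
    phi τ l (p ⊗ₜ h) = l (evL τ N p) h := rfl

theorem phi_tmul_homogeneous {N : ℕ} (l : ↥(idl τ ^ N) →ₗ[A] H →ₗ[A] D) {p : MvPolynomial σ A}
    (hp : p.IsHomogeneous N) (a : ↥(idl τ ^ N)) (ha : eval τ p = a) (h : H) : phi τ l (p ⊗ₜ h) = l a h := by
  rw [phi_tmul, show evL τ N p = a from Subtype.ext ((evL_of_homogeneous τ hp).trans ha)]

/-- Multiplication by a homogeneous polynomial shifts the degree. -/
theorem phi_homogeneous_smul {q N M : ℕ} (hM : M = q + N) {f : MvPolynomial σ A} (hf : f.IsHomogeneous q)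
    (l : ↥(idl τ ^ M) →ₗ[A] H →ₗ[A] D) (l' : ↥(idl τ ^ N) →ₗ[A] H →ₗ[A] D') (ψ : D' →ₗ[A] D)
    (hc : ∀ (a : ↥(idl τ ^ N)) (b : ↥(idl τ ^ M)), (b : A) = eval τ f * a → ∀ h, l b h = ψ (l' a h))
    (w : PolyMod (A := A) H σ) : phi τ l (f • w) = ψ (phi τ l' w) := by
  induction w using TensorProduct.induction_on with
  | zero => rw [smul_zero, map_zero, map_zero, map_zero]
  | add a b ha hb => rw [smul_add, map_add, map_add, ha, hb, map_add]
  | tmul p h =>
    rw [TensorProduct.smul_tmul', smul_eq_mul, phi_tmul, phi_tmul]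
    refine hc _ _ ?_ h
    rw [evL_homogeneous_mul τ hf, if_pos (by omega), show M - q = N by omega]

theorem phi_homogeneous_smul_of_lt {q M : ℕ} (hM : M < q) {f : MvPolynomial σ A} (hf : f.IsHomogeneous q)
    (l : ↥(idl τ ^ M) →ₗ[A] H →ₗ[A] D) (w : PolyMod (A := A) H σ) : phi τ l (f • w) = 0 := by
  induction w using TensorProduct.induction_on with
  | zero => rw [smul_zero, map_zero]
  | add a b ha hb => rw [smul_add, map_add, ha, hb, add_zero]
  | tmul p h =>
    rw [TensorProduct.smul_tmul', smul_eq_mul, phi_tmul, show evL τ M (f * p) = 0 from Subtype.ext (by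
      rw [evL_homogeneous_mul τ hf, if_neg (by omega)]; rfl), map_zero, LinearMap.zero_apply]

/-- Elements without components above a degree. -/
def boundedBy (σ : Type u) (H : Type u) [AddCommGroup H] [Module A H] (c : ℕ) : Submodule A (PolyMod (A := A) H σ) :=
  Submodule.span A {w | ∃ (p : MvPolynomial σ A) (h : H), p.totalDegree ≤ c ∧ w = p ⊗ₜ h}

theorem phi_of_boundedBy {c N : ℕ} (hN : c < N) (l : ↥(idl τ ^ N) →ₗ[A] H →ₗ[A] D) {w : PolyMod (A := A) H σ}
    (hw : w ∈ boundedBy σ H c) : phi τ l w = 0 := by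
  induction hw using Submodule.span_induction with
  | mem w hw =>
    obtain ⟨p, h, hp, rfl⟩ := hw
    rw [phi_tmul, evL_of_totalDegree_lt τ (by omega), map_zero, LinearMap.zero_apply]
  | zero => rw [map_zero]
  | add a b _ _ ha hb => rw [map_add, ha, hb, add_zero]
  | smul r a _ ha => rw [map_smul, ha, smul_zero]

theorem boundedBy_mono {c c' : ℕ} (h : c ≤ c') : boundedBy (A := A) σ H c ≤ boundedBy σ H c' :=
  Submodule.span_mono fun _ ⟨p, h', hp, hw⟩ => ⟨p, h', hp.trans h, hw⟩

theorem exists_boundedBy (w : PolyMod (A := A) H σ) : ∃ c, w ∈ boundedBy σ H c := by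
  induction w using TensorProduct.induction_on with
  | zero => exact ⟨0, zero_mem _⟩
  | add a b ha hb =>
    obtain ⟨c, hc⟩ := ha
    obtain ⟨d, hd⟩ := hb
    exact ⟨max c d, add_mem (boundedBy_mono (le_max_left c d) hc) (boundedBy_mono (le_max_right c d) hd)⟩
  | tmul p h => exact ⟨p.totalDegree, Submodule.subset_span ⟨p, h, le_rfl, rfl⟩⟩

/-- Submodules are generated in bounded degrees. -/
theorem exists_bound [Finite σ] [IsNoetherianRing A] [Module.Finite A H]
    (W : Submodule (MvPolynomial σ A) (PolyMod (A := A) H σ)) :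
    ∃ (c : ℕ) (S : Finset (PolyMod (A := A) H σ)), Submodule.span (MvPolynomial σ A) (S : Set (PolyMod (A := A) H σ)) = W ∧
      ∀ s ∈ S, s ∈ boundedBy σ H c := by
  haveI : IsNoetherian (MvPolynomial σ A) (PolyMod (A := A) H σ) := isNoetherian_of_isNoetherianRing_of_finite _ _
  obtain ⟨S, hS⟩ := IsNoetherian.noetherian W
  choose c hc using exists_boundedBy (A := A) (σ := σ) (H := H)
  classical
  exact ⟨S.sup c, S, hS, fun s hs => boundedBy_mono (Finset.le_sup hs) (hc s)⟩

theorem smul_smul_polyMod (f g : MvPolynomial σ A) (u : PolyMod (A := A) H σ) : f • g • u = (f * g) • u :=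
  smul_smul f g u

theorem one_smul_polyMod (u : PolyMod (A := A) H σ) : (1 : MvPolynomial σ A) • u = u :=
  one_smul _ u

/-- Multiplication by an element of a power, into a higher power. -/
def mulPow {q k M : ℕ} (h : M = q + k) (x : ↥(idl τ ^ q)) : ↥(idl τ ^ k) →ₗ[A] ↥(idl τ ^ M) :=
  LinearMap.codRestrict _ ((LinearMap.mulLeft A (x : A)).comp (idl τ ^ k).subtype) fun a => by
    rw [h, pow_add]
    exact Ideal.mul_mem_mul x.2 a.2

theorem mulPow_val {q k M : ℕ} (h : M = q + k) (x : ↥(idl τ ^ q)) (a : ↥(idl τ ^ k)) :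
    (mulPow τ h x a : A) = x * a := rfl

end Groth.Agent.NFlatFormalH7
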