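import Groth.Agent.Lib.NFlatFormalH7.Mult
import Groth.Agent.Lib.NFlatFormalH7.Poly

/-!
# Stabilization of images for systems with split graded pieces
-/

set_option autoImplicit false
set_option linter.style.haveILetI false
set_option backward.isDefEq.respectTransparency false

universe u

open CategoryTheory CategoryTheory.Limits AlgebraicGeometry Opposite

noncomputable section

namespace Groth.Agent.NFlatFormalH7

open Groth.Agent Groth.Agent.GExistH7 Groth.Agent.FormalH7

variable {A : Type u} [CommRing A] {X : Scheme.{u}} [X.Over (Spec (CommRingCat.of A))] {J : Ideal A}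
  {G : ℕᵒᵖ ⥤ X.Modules} (hG : IsSys J G)

/-- The graded pieces are summands of sums of the bottom level, through multiplications. -/
def IsSplit : Prop :=
  ∀ n : ℕ, ∃ (r : ℕ) (a : Fin r → ↥(J ^ (n + 1))) (σ : Fin r → (kernel (gm G (Nat.le_succ n)) ⟶ G.obj (op 0))),
    ∑ i, σ i ≫ jm hG (Nat.zero_le (n + 1)) (le_refl (n + 1)) (a i) = kernel.ι (gm G (Nat.le_succ n))

set_option maxHeartbeats 1600000 in
set_option synthInstance.maxHeartbeats 100000 in
theorem exists_stable_lift [IsNoetherianRing A] (hs : IsSplit hG)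
    (hfin : Module.Finite A (Coh.HH X (G.obj (op 0)) 1)) :
    ∃ c : ℕ, ∀ (n N : ℕ) (hN : N = n + c) (x : Coh.HH X (G.obj (op N)) 0),
      ∃ x' : Coh.HH X (G.obj (op (N + 1))) 0,
        CurveCoh17.hmap A (gm G (show n ≤ N + 1 by omega)) 0 x' =
          CurveCoh17.hmap A (gm G (show n ≤ N by omega)) 0 x := by
  obtain ⟨r₀, τ, hτ⟩ := Submodule.fg_iff_exists_fin_generating_family.1 (IsNoetherian.noetherian J)
  let τ' : ULift.{u} (Fin r₀) → A := fun i => τ i.down
  have hJ : idl τ' = J := by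
    rw [idl, ← hτ, show Set.range τ' = Set.range τ from Set.ext fun z =>
      ⟨fun ⟨i, hi⟩ => ⟨i.down, hi⟩, fun ⟨i, hi⟩ => ⟨⟨i⟩, hi⟩⟩]
  subst hJ
  let H1 := Coh.HH X (G.obj (op 0)) 1
  let Φ : ∀ M : ℕ, PolyMod (A := A) H1 (ULift.{u} (Fin r₀)) →ₗ[A] Coh.HH X (G.obj (op M)) 1 := fun M =>
    phi τ' (mL hG 1 (le_refl M : M ≤ M + 0))
  have hshift : ∀ (q : ℕ) (f : MvPolynomial (ULift.{u} (Fin r₀)) A) (hf : f.IsHomogeneous q) (M : ℕ) (w),
      Φ (q + M) (f • w) = CurveCoh17.hmap A (jm hG (Nat.le_add_left M q) (le_refl (q + M))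
        ⟨MvPolynomial.eval τ' f, eval_mem_pow τ' hf⟩) 1 (Φ M w) := fun q f hf M w =>
    phi_homogeneous_smul τ' rfl hf _ _ (CurveCoh17.hmap A _ 1) (fun a b hab h => by
      show CurveCoh17.hmap A _ 1 h = CurveCoh17.hmap A _ 1 (CurveCoh17.hmap A _ 1 h)
      rw [← CurveCoh17.hmap_comp, jm_comp hG _ _ _ _ (show q + M ≤ q + M + 0 by omega) a _ b hab]) w
  let W : Submodule (MvPolynomial (ULift.{u} (Fin r₀)) A) (PolyMod (A := A) H1 (ULift.{u} (Fin r₀))) :=
    { carrier := {w | ∀ M, Φ M w = 0}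
      zero_mem' := fun M => map_zero _
      add_mem' := fun {a b} ha hb M => by rw [map_add, ha M, hb M, add_zero]
      smul_mem' := fun p w hw M => by
        rw [← MvPolynomial.sum_homogeneousComponent p, Finset.sum_smul, map_sum]
        refine Finset.sum_eq_zero fun i _ => ?_
        have hf := MvPolynomial.homogeneousComponent_isHomogeneous i p
        rcases le_or_gt i M with h | h
        · obtain ⟨k, rfl⟩ := Nat.exists_eq_add_of_le h
          rw [hshift i _ hf, hw k, map_zero]
        · exact phi_homogeneous_smul_of_lt τ' h hf _ w }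
  obtain ⟨c, S, hS, hSc⟩ := exists_bound W
  refine ⟨c, fun n N hN x => ?_⟩
  obtain ⟨r, a, σ, hσ⟩ := hs N
  let gA := gm G (Nat.le_succ N)
  let gB := gm G (show n ≤ N + 1 by omega)
  haveI : Epi gA := (hG.quot_gm _).epi
  haveI : Epi gB := (hG.quot_gm _).epi
  have hA : (ShortComplex.mk (kernel.ι gA) gA (kernel.condition gA)).ShortExact :=
    { exact := ShortComplex.exact_kernel gA }
  have hB : (ShortComplex.mk (kernel.ι gB) gB (kernel.condition gB)).ShortExact :=
    { exact := ShortComplex.exact_kernel gB }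
  let φ : ShortComplex.mk (kernel.ι gA) gA (kernel.condition gA) ⟶
      ShortComplex.mk (kernel.ι gB) gB (kernel.condition gB) :=
    { τ₁ := kernel.lift gB (kernel.ι gA) (by
        rw [show gB = gA ≫ gm G (show n ≤ N by omega) from (gm_comp G _ _).symm, kernel.condition_assoc, zero_comp])
      τ₂ := 𝟙 _
      τ₃ := gm G (show n ≤ N by omega)
      comm₁₂ := (kernel.lift_ι _ _ _).trans (Category.comp_id _).symm
      comm₂₃ := (Category.id_comp _).trans (gm_comp G _ _).symm }
  let o := CurveCoh17.hdelta A hA 0 x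
  choose p hp hpe using fun j => exists_eval_eq τ' (a j).2
  let w : PolyMod (A := A) H1 (ULift.{u} (Fin r₀)) :=
    ∑ j, p j ⊗ₜ (CurveCoh17.hmap A (σ j) 1 o : H1)
  have ho : CurveCoh17.hmap A (kernel.ι gA) 1 o = 0 := (CurveCoh17.exact_hdelta_hmap A hA 0 o).2 ⟨x, rfl⟩
  have hw : w ∈ W := by
    intro M
    show Φ M w = 0
    rw [map_sum]
    by_cases hM : M = N + 1
    · subst hM
      have h1 : ∀ j, Φ (N + 1) (p j ⊗ₜ (CurveCoh17.hmap A (σ j) 1 o : H1)) =
          CurveCoh17.hmap A (σ j ≫ jm hG (Nat.zero_le (N + 1)) (le_refl (N + 1)) (a j)) 1 o := fun j => by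
        rw [CurveCoh17.hmap_comp]
        exact phi_tmul_homogeneous τ' _ (hp j) (a j) (hpe j) _
      rw [Finset.sum_congr rfl fun j _ => h1 j, ← hmap_sum, hσ]
      exact ho
    · refine Finset.sum_eq_zero fun j _ => ?_
      show phi τ' _ _ = 0
      rw [phi_tmul, evL_of_ne τ' (hp j) hM, map_zero, LinearMap.zero_apply]
  let Ψ : PolyMod (A := A) H1 (ULift.{u} (Fin r₀)) →ₗ[A] Coh.HH X (kernel gB) 1 :=
    phi τ' (kL hG 1 (le_refl (N + 1) : N + 1 ≤ N + 1 + 0) (show n ≤ N + 1 by omega) (by omega))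
  have hΨw : Ψ w = CurveCoh17.hmap A φ.τ₁ 1 o := by
    show Ψ (∑ j, p j ⊗ₜ (CurveCoh17.hmap A (σ j) 1 o : H1)) = _
    rw [map_sum]
    have h1 : ∀ j, Ψ (p j ⊗ₜ (CurveCoh17.hmap A (σ j) 1 o : H1)) = CurveCoh17.hmap A
        (σ j ≫ jmK hG (Nat.zero_le (N + 1)) (le_refl (N + 1) : N + 1 ≤ N + 1 + 0) (show n ≤ N + 1 by omega) (a j)
          (by omega)) 1 o := fun j => by
      rw [CurveCoh17.hmap_comp]
      exact phi_tmul_homogeneous τ' _ (hp j) (a j) (hpe j) _
    rw [Finset.sum_congr rfl fun j _ => h1 j, ← hmap_sum]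
    congr 2
    rw [← cancel_mono (kernel.ι gB)]
    erw [kernel.lift_ι]
    simp only [Preadditive.sum_comp, Category.assoc]
    exact (Finset.sum_congr rfl fun j _ => by erw [jmK_ι]).trans hσ
  have hkill : ∀ u, u ∈ W → ∀ f : MvPolynomial (ULift.{u} (Fin r₀)) A, Ψ (f • u) = 0 := by
    intro u hu
    rw [← hS] at hu
    induction hu using Submodule.span_induction with
    | mem u hu =>
      intro f
      rw [← MvPolynomial.sum_homogeneousComponent f, Finset.sum_smul, map_sum]
      refine Finset.sum_eq_zero fun q _ => ?_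
      have hf := MvPolynomial.homogeneousComponent_isHomogeneous q f
      rcases le_or_gt q (N + 1) with hq | hq
      · obtain ⟨k, hk⟩ := Nat.exists_eq_add_of_le hq
        by_cases hqn : n + 1 ≤ q
        · refine (phi_homogeneous_smul τ' hk hf _ (mL hG 1 (le_refl k : k ≤ k + 0))
            (CurveCoh17.hmap A (jmK hG (show k ≤ N + 1 by omega) (show N + 1 ≤ q + k by omega)
              (show n ≤ N + 1 by omega) ⟨MvPolynomial.eval τ' _, eval_mem_pow τ' hf⟩ hqn) 1)
            (fun a b hab h => ?_) u).trans ?_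
          · show CurveCoh17.hmap A _ 1 h = CurveCoh17.hmap A _ 1 (CurveCoh17.hmap A _ 1 h)
            rw [← CurveCoh17.hmap_comp]
            congr 2
            rw [← cancel_mono (kernel.ι gB), Category.assoc]
            erw [jmK_ι, jmK_ι]
            exact (jm_comp hG _ _ _ _ _ a _ b hab).symm
          · have hu' : u ∈ W := hS ▸ Submodule.subset_span hu
            rw [show phi τ' (mL hG 1 (le_refl k : k ≤ k + 0)) u = 0 from hu' k, map_zero]
        · have hz : phi τ' (kL hG 1 (le_refl (N + 1) : N + 1 ≤ N + 1 + 0) (show n ≤ N + 1 by omega) (by omega))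
              (MvPolynomial.homogeneousComponent q f • u) = 0 := by
            let l' : ↥(idl τ' ^ k) →ₗ[A] Coh.HH X (G.obj (op 0)) 1 →ₗ[A] Coh.HH X (kernel gB) 1 :=
              (kL hG 1 (le_refl (N + 1) : N + 1 ≤ N + 1 + 0) (show n ≤ N + 1 by omega) (by omega)).comp
                (mulPow τ' hk ⟨_, eval_mem_pow τ' hf⟩)
            rw [phi_homogeneous_smul τ' hk hf _ l' LinearMap.id (fun a b hab h => by
              show _ = kL hG 1 _ _ _ (mulPow τ' hk _ a) h
              congr 2
              exact Subtype.ext hab) u]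
            rw [phi_of_boundedBy τ' (show c < k by omega) l' (hSc u hu), map_zero]
          exact hz
      · exact phi_homogeneous_smul_of_lt τ' hq hf _ u
    | zero => intro f; rw [smul_zero, map_zero]
    | add u v _ _ hu hv => intro f; rw [smul_add, map_add, hu f, hv f, add_zero]
    | smul g u _ hu => intro f; rw [smul_smul_polyMod]; exact hu _
  have h0 := hkill w hw 1
  rw [one_smul_polyMod, hΨw] at h0
  exact (CurveCoh17.exact_hmap_hdelta A hB 0 _).1 ((DVRTriv4.hdelta_natural A hA hB φ 0 x).symm.trans h0)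

end Groth.Agent.NFlatFormalH7
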