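import Mathlib.RingTheory.AdicCompletion.Functoriality
import Mathlib.RingTheory.Regular.RegularSequence
import Mathlib.RingTheory.Flat.EquationalCriterion
import Mathlib.RingTheory.Finiteness.Basic

/-!
# Limits of adic towers, quasi-regularity and flatness
-/

set_option autoImplicit false
set_option linter.style.haveILetI false

universe u

noncomputable section

namespace Groth.Agent.NFlatFormalH7

variable {R : Type u} [CommRing R]

/-- Elements of a product of an ideal with a spanning family and a module. -/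
theorem exists_sum_of_mem_smul {M : Type u} [AddCommGroup M] [Module R M] {r : ℕ} {b : Fin r → R} (K : Ideal R)
    {z : M} (hz : z ∈ (K * Ideal.span (Set.range b)) • (⊤ : Submodule R M)) :
    ∃ w : Fin r → M, (∀ l, w l ∈ K • (⊤ : Submodule R M)) ∧ z = ∑ l, b l • w l := by
  refine Submodule.smul_induction_on hz (fun a ha m _ => ?_) fun z z' ⟨w, hw, hz⟩ ⟨w', hw', hz'⟩ =>
    ⟨w + w', fun l => add_mem (hw l) (hw' l), by simp only [Pi.add_apply, smul_add, Finset.sum_add_distrib, hz, hz']⟩
  refine Submodule.mul_induction_on ha (fun x hx y hy => ?_) fun x y ⟨w, hw, hz⟩ ⟨w', hw', hz'⟩ =>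
    ⟨w + w', fun l => add_mem (hw l) (hw' l), by simp only [Pi.add_apply, smul_add, Finset.sum_add_distrib, add_smul, hz, hz']⟩
  obtain ⟨d, rfl⟩ := Submodule.mem_span_range_iff_exists_fun R |>.1 hy
  refine ⟨fun l => (x * d l) • m, fun l => Submodule.smul_mem_smul (Ideal.mul_mem_right _ _ hx) trivial, ?_⟩
  rw [Finset.mul_sum, Finset.sum_smul]
  exact Finset.sum_congr rfl fun l _ => by rw [smul_smul, smul_eq_mul]; congr 1; ring

theorem exists_sum_of_mem_span_smul {M : Type u} [AddCommGroup M] [Module R M] {r : ℕ} {b : Fin r → R}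
    {z : M} (hz : z ∈ Ideal.span (Set.range b) • (⊤ : Submodule R M)) : ∃ w : Fin r → M, z = ∑ l, b l • w l := by
  obtain ⟨w, -, hw⟩ := exists_sum_of_mem_smul (⊤ : Ideal R) (b := b) (z := z) (by rwa [Ideal.top_mul])
  exact ⟨w, hw⟩

section tower

variable {M : ℕ → Type u} [∀ n, AddCommGroup (M n)] [∀ n, Module R (M n)]
  (g : ∀ {n m : ℕ}, n ≤ m → (M m →ₗ[R] M n))

/-- Compatible families in a tower. -/
def towLim : Submodule R (∀ n, M n) where
  carrier := {s | ∀ n, g (Nat.le_succ n) (s (n + 1)) = s n}
  zero_mem' := fun n => map_zero _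
  add_mem' := fun {a b} ha hb n => by rw [Pi.add_apply, map_add, ha n, hb n]; rfl
  smul_mem' := fun c a ha n => by rw [Pi.smul_apply, map_smul, ha n]; rfl

variable (htr : ∀ {n m k : ℕ} (h : n ≤ m) (h' : m ≤ k) (x : M k), g h (g h' x) = g (h.trans h') x)
  (hrf : ∀ {n : ℕ} (x : M n), g (le_refl n) x = x)
  (hsur : ∀ {n m : ℕ} (h : n ≤ m), Function.Surjective (g h))
include htr hrf

theorem towLim_compat (s : towLim g) {n m : ℕ} (h : n ≤ m) : g h (s.1 m) = s.1 n := by
  induction m, h using Nat.le_induction with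
  | base => exact hrf _
  | succ m h ih =>
    rw [← ih, ← s.2 m]
    exact (htr h (Nat.le_succ m) (s.1 (m + 1))).symm

include hsur in
/-- The limit surjects onto each level. -/
theorem exists_towLim {n : ℕ} (z : M n) : ∃ s : towLim g, s.1 n = z := by
  choose f hf using fun k => fun x : M (n + k) => hsur (Nat.le_succ (n + k)) x
  let y : ∀ k, M (n + k) := fun k => k.rec (motive := fun k => M (n + k)) z f
  have hy : ∀ k, g (Nat.le_succ (n + k)) (y (k + 1)) = y k := fun k => hf k (y k)
  refine ⟨⟨fun k => g (Nat.le_add_left k n) (y k), fun k => ?_⟩, ?_⟩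
  · show g _ (g _ (y (k + 1))) = g _ (y k)
    rw [← hy k, htr, htr]
  · have hk : ∀ k, g (Nat.le_add_right n k) (y k) = z := by
      intro k
      induction k with
      | zero => exact hrf _
      | succ k ih => rw [← ih, ← hy k, htr]
    exact hk n

variable {a : Ideal R} (hkill : ∀ (n : ℕ), ∀ c ∈ a ^ (n + 1), ∀ x : M n, c • x = 0)
  (hker : ∀ {n m : ℕ} (h : n ≤ m) (x : M m), g h x = 0 → x ∈ a ^ (n + 1) • (⊤ : Submodule R (M m)))
include hsur hkill hker

/-- A family vanishing at a level is a combination of multiples. -/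
theorem mem_smul_of_level_eq_zero (ha : ∀ n : ℕ, (a ^ n).FG) (N : ℕ) (s : towLim g) (hs : s.1 N = 0) :
    s ∈ a ^ (N + 1) • (⊤ : Submodule R (towLim g)) := by
  obtain ⟨r, b, hb⟩ := Submodule.fg_iff_exists_fin_generating_family.1 (ha (N + 1))
  have hbspan : Ideal.span (Set.range b) = a ^ (N + 1) := hb
  have hstep : ∀ (j : ℕ) (w : Fin r → M (N + j)), ∑ l, b l • w l = s.1 (N + j) →
      ∃ w' : Fin r → M (N + (j + 1)), ∑ l, b l • w' l = s.1 (N + (j + 1)) ∧
        ∀ l, g (Nat.le_succ (N + j)) (w' l) - w l ∈ a ^ j • (⊤ : Submodule R (M (N + j))) := by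
    intro j w hw
    choose w'' hw'' using fun l => hsur (Nat.le_succ (N + j)) (w l)
    have hD : g (Nat.le_succ (N + j)) (s.1 (N + (j + 1)) - ∑ l, b l • w'' l) = 0 := by
      rw [map_sub, map_sum, sub_eq_zero]
      simp only [map_smul, hw'', hw]
      exact s.2 (N + j)
    have hmem := hker _ _ hD
    rw [show N + j + 1 = j + (N + 1) by omega, pow_add, ← hbspan] at hmem
    obtain ⟨d, hd, hD'⟩ := exists_sum_of_mem_smul (a ^ j) hmem
    refine ⟨fun l => w'' l + d l, ?_, fun l => ?_⟩
    · simp only [smul_add, Finset.sum_add_distrib]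
      rw [← hD', add_sub_cancel]
    · rw [map_add, hw'', add_sub_cancel_left]
      exact (Submodule.map_smul'' (a ^ j) ⊤ (g (Nat.le_succ (N + j)))).trans_le (Submodule.smul_mono le_rfl le_top)
        (Submodule.mem_map_of_mem (hd l))
  choose next hnext hnext' using hstep
  let W : ∀ j, {w : Fin r → M (N + j) // ∑ l, b l • w l = s.1 (N + j)} := fun j =>
    j.rec (motive := fun j => {w : Fin r → M (N + j) // ∑ l, b l • w l = s.1 (N + j)})
      ⟨0, by simp [hs]⟩ fun j w => ⟨next j w.1 w.2, hnext j w.1 w.2⟩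
  have hu : ∀ l, (fun p => g (show p ≤ N + (p + 1) by omega) ((W (p + 1)).1 l)) ∈ towLim g := fun l p => by
    show g (Nat.le_succ p) (g _ ((W (p + 1 + 1)).1 l)) = g _ ((W (p + 1)).1 l)
    rw [htr, ← htr (show p ≤ N + (p + 1) by omega) (Nat.le_succ _), ← sub_eq_zero, ← map_sub]
    have h1 := hnext' (p + 1) (W (p + 1)).1 (W (p + 1)).2 l
    refine Submodule.smul_induction_on h1 (fun c hc m _ => ?_) fun x y hx hy => by rw [map_add, hx, hy, add_zero]
    rw [map_smul, hkill p c hc]
  have hs' : s = ∑ l, b l • (⟨_, hu l⟩ : towLim g) := Subtype.ext (funext fun p => by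
    simp only [Submodule.coe_sum, Finset.sum_apply, Submodule.coe_smul, Pi.smul_apply]
    rw [← towLim_compat g htr hrf s (show p ≤ N + (p + 1) by omega)]
    refine ((congrArg (g (show p ≤ N + (p + 1) by omega)) (W (p + 1)).2).symm.trans (map_sum _ _ _)).trans ?_
    exact Finset.sum_congr rfl fun l _ => map_smul _ _ _)
  rw [hs']
  exact Submodule.sum_mem _ fun l _ => Submodule.smul_mem_smul (hb ▸ Submodule.subset_span (Set.mem_range_self l)) trivial

end tower

/-- Modules killed by a power of an ideal are their own completion. -/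
theorem bijective_adicCompletion_of {M : Type u} [AddCommGroup M] [Module R M] (a : Ideal R) (N : ℕ)
    (hN : ∀ c ∈ a ^ N, ∀ x : M, c • x = 0) : Function.Bijective (AdicCompletion.of a M) := by
  have hbot : a ^ N • (⊤ : Submodule R M) = ⊥ := le_bot_iff.1 (Submodule.smul_le.2 fun c hc x _ => by
    rw [Submodule.mem_bot]; exact hN c hc x)
  refine ⟨(injective_iff_map_eq_zero _).2 fun x hx => ?_, fun x => ?_⟩
  · have h : (AdicCompletion.of a M x).val N = 0 := by rw [hx]; rfl
    rw [AdicCompletion.of_apply, Submodule.mkQ_apply, Submodule.Quotient.mk_eq_zero, hbot] at h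
    exact (Submodule.mem_bot R).1 h
  · obtain ⟨m, hm⟩ := Submodule.mkQ_surjective _ (x.val N)
    refine ⟨m, AdicCompletion.ext fun k => ?_⟩
    obtain ⟨m', hm'⟩ := Submodule.mkQ_surjective _ (x.val k)
    rw [AdicCompletion.of_apply, ← hm', Submodule.mkQ_apply, Submodule.mkQ_apply, Submodule.Quotient.eq]
    rcases le_total k N with h | h
    · have h1 := x.2 h
      rw [← hm, ← hm'] at h1
      exact (Submodule.Quotient.eq _).1 h1
    · have h1 := x.2 h
      rw [← hm, ← hm'] at h1
      have h2 : m' - m ∈ a ^ N • (⊤ : Submodule R M) := (Submodule.Quotient.eq _).1 h1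
      rw [hbot, Submodule.mem_bot, sub_eq_zero] at h2
      rw [h2, sub_self]
      exact zero_mem _

/-- Indices of monomials in no variables. -/
def IdxZ : ℕ → Type
  | 0 => Unit
  | _ + 1 => Empty

/-- Indices of monomials with one more variable. -/
def IdxS (P : ℕ → Type) : ℕ → Type
  | 0 => Unit
  | n + 1 => P (n + 1) ⊕ IdxS P n

/-- Indices of monomials of a given degree. -/
def Idx : ℕ → ℕ → Type
  | 0 => IdxZ
  | d + 1 => IdxS (Idx d)

/-- Finiteness with one more variable. -/
@[instance_reducible] def fintypeS (P : ℕ → Type) (hP : ∀ n, Fintype (P n)) : ∀ n, Fintype (IdxS P n)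
  | 0 => inferInstanceAs (Fintype Unit)
  | n + 1 => @instFintypeSum _ _ (hP (n + 1)) (fintypeS P hP n)

/-- Finiteness without variables. -/
@[instance_reducible] def fintypeZ : ∀ n, Fintype (IdxZ n)
  | 0 => inferInstanceAs (Fintype Unit)
  | _ + 1 => inferInstanceAs (Fintype Empty)

instance fintypeIdx : ∀ d n, Fintype (Idx d n)
  | 0 => fintypeZ
  | d + 1 => fintypeS _ (fintypeIdx d)

/-- Monomials without variables. -/
def monZ : ∀ n, IdxZ n → R
  | 0, _ => 1
  | _ + 1, i => Empty.elim i

/-- Monomials with one more variable. -/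
def monS {P : ℕ → Type} (m : ∀ n, P n → R) (y : R) : ∀ n, IdxS P n → R
  | 0, _ => 1
  | n + 1, i => Sum.elim (m (n + 1)) (fun j => y * monS m y n j) i

/-- Monomials of a given degree. -/
def mon : ∀ (d : ℕ) (f : Fin d → R) (n : ℕ), Idx d n → R
  | 0, _ => monZ
  | d + 1, f => monS (mon d (f ∘ Fin.castSucc)) (f (Fin.last d))

theorem span_mon : ∀ (d : ℕ) (f : Fin d → R) (n : ℕ),
    Ideal.span (Set.range (mon d f n)) = Ideal.span (Set.range f) ^ n := by
  intro d
  induction d with
  | zero =>
    intro f n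
    have h0 : Ideal.span (Set.range f) = ⊥ := by rw [Set.range_eq_empty, Ideal.span_empty]
    cases n with
    | zero =>
      rw [pow_zero, Ideal.one_eq_top, Ideal.eq_top_iff_one]
      exact Ideal.subset_span ⟨(), rfl⟩
    | succ n =>
      haveI : IsEmpty (Idx 0 (n + 1)) := inferInstanceAs (IsEmpty Empty)
      rw [h0, Set.range_eq_empty, Ideal.span_empty, Ideal.bot_pow (Nat.succ_ne_zero n)]
  | succ d ihd =>
    intro f n
    induction n with
    | zero =>
      rw [pow_zero, Ideal.one_eq_top, Ideal.eq_top_iff_one]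
      exact Ideal.subset_span ⟨(), rfl⟩
    | succ n ihn =>
      have hr : Set.range (mon (d + 1) f (n + 1)) = Set.range (mon d (f ∘ Fin.castSucc) (n + 1)) ∪
          (fun x => f (Fin.last d) * x) '' Set.range (mon (d + 1) f n) := by
        rw [← Set.range_comp, ← Set.Sum.elim_range]
        rfl
      rw [hr, Ideal.span_union, ihd (f ∘ Fin.castSucc) (n + 1)]
      have h2 : Ideal.span ((fun x => f (Fin.last d) * x) '' Set.range (mon (d + 1) f n)) =
          Ideal.span {f (Fin.last d)} * Ideal.span (Set.range f) ^ n := by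
        rw [← ihn, Ideal.span_mul_span', Set.singleton_mul]
      have hf : Ideal.span (Set.range f) = Ideal.span (Set.range (f ∘ Fin.castSucc)) ⊔ Ideal.span {f (Fin.last d)} := by
        refine le_antisymm (Ideal.span_le.2 ?_) (sup_le (Ideal.span_mono (Set.range_comp_subset_range _ f))
          (Ideal.span_mono (Set.singleton_subset_iff.2 (Set.mem_range_self _))))
        rintro _ ⟨i, rfl⟩
        induction i using Fin.lastCases with
        | last => exact Ideal.mem_sup_right (Ideal.subset_span rfl)
        | cast i => exact Ideal.mem_sup_left (Ideal.subset_span ⟨i, rfl⟩)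
      rw [h2, hf]
      set P := Ideal.span (Set.range (f ∘ Fin.castSucc))
      set Q := Ideal.span {f (Fin.last d)}
      refine le_antisymm (sup_le (Ideal.pow_right_mono le_sup_left _) ?_) ?_
      · rw [pow_succ' (P ⊔ Q) n]
        exact Ideal.mul_mono_left le_sup_right
      · clear hr h2 hf ihd ihn
        clear_value P Q
        induction n with
        | zero => simp
        | succ n ih =>
          rw [pow_succ (P ⊔ Q) (n + 1)]
          refine (Ideal.mul_mono_left ih).trans ?_
          rw [Ideal.sup_mul, Ideal.mul_sup, ← pow_succ, mul_assoc Q _ (P ⊔ Q), ← pow_succ]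
          refine sup_le (sup_le le_sup_left ?_) le_sup_right
          refine le_sup_of_le_right ?_
          rw [mul_comm]
          exact Ideal.mul_mono_right (Ideal.pow_right_mono le_sup_left _)

/-- Regular sequences on modules are quasi-regular. -/
theorem quasiRegular {M : Type u} [AddCommGroup M] [Module R M] :
    ∀ (d : ℕ) (f : Fin d → R),
      (∀ (i : Fin d) (x : M), f i • x ∈ Ideal.span (f '' {j | j < i}) • (⊤ : Submodule R M) →
        x ∈ Ideal.span (f '' {j | j < i}) • (⊤ : Submodule R M)) →
      ∀ (n : ℕ) (c : Idx d n → M), ∑ i, mon d f n i • c i ∈ Ideal.span (Set.range f) ^ (n + 1) • (⊤ : Submodule R M) →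
        ∀ i, c i ∈ Ideal.span (Set.range f) • (⊤ : Submodule R M) := by
  intro d
  induction d with
  | zero =>
    intro f _ n c hc i
    cases n with
    | zero =>
      rw [zero_add, pow_one] at hc
      have h : ∑ j, mon 0 f 0 j • c j = c i := (Finset.sum_eq_single_of_mem i (Finset.mem_univ i)
        fun j _ hj => absurd (@Subsingleton.elim Unit _ j i) hj).trans (one_smul R _)
      rwa [h] at hc
    | succ n => exact Empty.elim i
  | succ d ihd =>
    intro f hreg
    set f' : Fin d → R := f ∘ Fin.castSucc with hf'def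
    set y := f (Fin.last d) with hy
    set P := Ideal.span (Set.range f') with hP
    set J := Ideal.span (Set.range f) with hJ
    have hPJ : P ≤ J := Ideal.span_mono (Set.range_comp_subset_range _ f)
    have hy' : y ∈ J := Ideal.subset_span (Set.mem_range_self _)
    have hlast : f '' {j | j < Fin.last d} = Set.range f' := by
      ext z
      constructor
      · rintro ⟨j, hj, rfl⟩
        exact ⟨j.castPred (Fin.ne_last_of_lt hj), by rw [hf'def, Function.comp_apply, Fin.castSucc_castPred]⟩
      · rintro ⟨j, rfl⟩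
        exact ⟨j.castSucc, Fin.castSucc_lt_last j, rfl⟩
    have hreg' : ∀ (i : Fin d) (x : M), f' i • x ∈ Ideal.span (f' '' {j | j < i}) • (⊤ : Submodule R M) →
        x ∈ Ideal.span (f' '' {j | j < i}) • (⊤ : Submodule R M) := by
      intro i x
      have h : f' '' {j | j < i} = f '' {j | j < i.castSucc} := by
        ext z
        constructor
        · rintro ⟨j, hj, rfl⟩
          exact ⟨j.castSucc, hj, rfl⟩
        · rintro ⟨j, hj, rfl⟩
          exact ⟨j.castPred (Fin.ne_last_of_lt hj), hj, by rw [hf'def, Function.comp_apply, Fin.castSucc_castPred]⟩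
      rw [h]
      exact hreg i.castSucc x
    have hP' := ihd f' hreg'
    have hspan : ∀ k, Ideal.span (Set.range (mon d f' k)) = P ^ k := span_mon d f'
    have hyk : ∀ (k : ℕ) (x : M), y • x ∈ P ^ k • (⊤ : Submodule R M) → x ∈ P ^ k • (⊤ : Submodule R M) := by
      intro k
      induction k with
      | zero => intro x _; rw [pow_zero, Ideal.one_eq_top, Submodule.top_smul]; trivial
      | succ k ih =>
        intro x hx
        have hxk := ih x (Submodule.smul_mono (Ideal.pow_le_pow_right (Nat.le_succ k)) le_rfl hx)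
        rw [← hspan] at hxk
        obtain ⟨c, hc⟩ : ∃ c : Idx d k → M, x = ∑ i, mon d f' k i • c i := by
          refine Submodule.smul_induction_on hxk (fun a ha m _ => ?_) fun z z' ⟨w, hz⟩ ⟨w', hz'⟩ =>
            ⟨w + w', by simp only [Pi.add_apply, smul_add, Finset.sum_add_distrib, hz, hz']⟩
          obtain ⟨e, rfl⟩ := Submodule.mem_span_range_iff_exists_fun R |>.1 ha
          exact ⟨fun i => e i • m, by rw [Finset.sum_smul]; exact Finset.sum_congr rfl fun i _ => by rw [smul_smul, smul_eq_mul, mul_comm]⟩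
        have hc' : ∀ i, c i ∈ P • (⊤ : Submodule R M) := fun i => by
          refine hP ▸ hlast ▸ hreg (Fin.last d) _ ?_
          rw [hlast]
          refine hP' k (fun i => y • c i) ?_ i
          rw [hc, Finset.smul_sum] at hx
          refine (Finset.sum_congr rfl fun i _ => smul_comm y (mon d f' k i) (c i)).subst (motive := fun z => z ∈ _) hx
        rw [hc]
        refine Submodule.sum_mem _ fun i _ => ?_
        rw [pow_succ, ← smul_eq_mul, Submodule.smul_assoc]
        exact Submodule.smul_mem_smul (hspan k ▸ Ideal.subset_span (Set.mem_range_self i)) (hc' i)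
    intro n
    induction n with
    | zero =>
      intro c hc i
      rw [zero_add, pow_one] at hc
      have h : ∑ j, mon (d + 1) f 0 j • c j = c i := (Finset.sum_eq_single_of_mem i (Finset.mem_univ i)
        fun j _ hj => absurd (@Subsingleton.elim Unit _ j i) hj).trans (one_smul R _)
      rwa [h] at hc
    | succ n ihn =>
      intro c hc i
      obtain ⟨u, hu, hcu⟩ : ∃ u : Idx (d + 1) (n + 1) → M, (∀ i, u i ∈ J • (⊤ : Submodule R M)) ∧
          ∑ i, mon (d + 1) f (n + 1) i • c i = ∑ i, mon (d + 1) f (n + 1) i • u i := by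
        rw [pow_succ, ← smul_eq_mul, Submodule.smul_assoc, ← span_mon (d + 1) f (n + 1)] at hc
        refine Submodule.smul_induction_on hc (fun a ha m hm => ?_) fun z z' ⟨w, hw, hz⟩ ⟨w', hw', hz'⟩ =>
          ⟨w + w', fun l => add_mem (hw l) (hw' l), by simp only [Pi.add_apply, smul_add, Finset.sum_add_distrib, hz, hz']⟩
        obtain ⟨e, rfl⟩ := Submodule.mem_span_range_iff_exists_fun R |>.1 ha
        exact ⟨fun i => e i • m, fun i => Submodule.smul_mem _ _ hm, by rw [Finset.sum_smul]; exact Finset.sum_congr rfl fun i _ => by rw [smul_smul, smul_eq_mul, mul_comm]⟩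
      suffices h : ∀ i, c i - u i ∈ J • (⊤ : Submodule R M) by
        have := add_mem (h i) (hu i)
        rwa [sub_add_cancel] at this
      set v : Idx (d + 1) (n + 1) → M := fun i => c i - u i with hv
      have hv0 : (∑ i : Idx d (n + 1), mon d f' (n + 1) i • v (Sum.inl i)) +
          y • ∑ j : Idx (d + 1) n, mon (d + 1) f n j • v (Sum.inr j) = 0 := by
        have h0 : ∑ i, mon (d + 1) f (n + 1) i • v i = 0 := by
          simp only [hv, smul_sub, Finset.sum_sub_distrib, hcu, sub_self]
        rw [← h0, Finset.smul_sum]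
        simp only [smul_smul]
        exact (Fintype.sum_sum_type (fun i : Idx d (n + 1) ⊕ Idx (d + 1) n => mon (d + 1) f (n + 1) i • v i)).symm
      have hH : ∑ j : Idx (d + 1) n, mon (d + 1) f n j • v (Sum.inr j) ∈ P ^ (n + 1) • (⊤ : Submodule R M) := by
        refine hyk (n + 1) _ ?_
        rw [eq_neg_of_add_eq_zero_right hv0]
        refine Submodule.neg_mem _ (Submodule.sum_mem _ fun i _ => ?_)
        exact Submodule.smul_mem_smul (hspan (n + 1) ▸ Ideal.subset_span (Set.mem_range_self i)) trivial
      have hvr : ∀ j, v (Sum.inr j) ∈ J • (⊤ : Submodule R M) := fun j =>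
        ihn (fun j => v (Sum.inr j)) (Submodule.smul_mono (Ideal.pow_right_mono hPJ _) le_rfl hH) j
      obtain ⟨h, hh⟩ : ∃ h : Idx d (n + 1) → M,
          ∑ j : Idx (d + 1) n, mon (d + 1) f n j • v (Sum.inr j) = ∑ i, mon d f' (n + 1) i • h i := by
        rw [← hspan] at hH
        refine Submodule.smul_induction_on hH (fun a ha m _ => ?_) fun z z' ⟨w, hz⟩ ⟨w', hz'⟩ =>
          ⟨w + w', by simp only [Pi.add_apply, smul_add, Finset.sum_add_distrib, hz, hz']⟩
        obtain ⟨e, rfl⟩ := Submodule.mem_span_range_iff_exists_fun R |>.1 ha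
        exact ⟨fun i => e i • m, by rw [Finset.sum_smul]; exact Finset.sum_congr rfl fun i _ => by rw [smul_smul, smul_eq_mul, mul_comm]⟩
      have hcomb : ∑ i, mon d f' (n + 1) i • (v (Sum.inl i) + y • h i) = 0 := by
        rw [← hv0, hh, Finset.smul_sum]
        simp only [smul_add, Finset.sum_add_distrib, smul_comm y]
      intro i
      rcases i with i | j
      · have h1 := hP' (n + 1) _ (hcomb ▸ zero_mem _) i
        have h2 : v (Sum.inl i) + y • h i ∈ J • (⊤ : Submodule R M) := Submodule.smul_mono hPJ le_rfl h1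
        have h3 := sub_mem h2 (Submodule.smul_mem_smul hy' (Submodule.mem_top : h i ∈ (⊤ : Submodule R M)))
        rwa [add_sub_cancel_right] at h3
      · exact hvr j

/-- Flat modules and relations among generators of consecutive powers. -/
theorem sum_smul_mem_of_flat {M : Type u} [AddCommGroup M] [Module R M] [Module.Flat R M] (m : Ideal R) (n : ℕ)
    {r : ℕ} (a e : Fin r → R) (he : ∀ c : Fin r → R, ∑ j, a j * c j ∈ m ^ (n + 1) → ∑ j, e j * c j ∈ m)
    (hfg : (m ^ (n + 1)).FG) (Z : Fin r → M) (hZ : ∑ j, a j • Z j ∈ m ^ (n + 1) • (⊤ : Submodule R M)) :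
    ∑ j, e j • Z j ∈ m • (⊤ : Submodule R M) := by
  obtain ⟨s, b, hb⟩ := Submodule.fg_iff_exists_fin_generating_family.1 hfg
  obtain ⟨W, hW⟩ := exists_sum_of_mem_span_smul (b := b) (show _ ∈ Ideal.span (Set.range b) • (⊤ : Submodule R M) from by
    rw [show Ideal.span (Set.range b) = m ^ (n + 1) from hb]; exact hZ)
  have hrel : ∑ i : Fin r ⊕ Fin s, Sum.elim a b i • Sum.elim Z (fun l => -W l) i = 0 := by
    rw [Fintype.sum_sum_type]
    simp only [Sum.elim_inl, Sum.elim_inr, smul_neg, Finset.sum_neg_distrib, hW, add_neg_cancel]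
  obtain ⟨k, c, y, hy, hc⟩ := Module.Flat.isTrivialRelation_of_sum_smul_eq_zero hrel
  have hmem : ∀ q, ∑ j, e j * c (Sum.inl j) q ∈ m := fun q => he _ (by
    have h1 := hc q
    rw [Fintype.sum_sum_type] at h1
    simp only [Sum.elim_inl, Sum.elim_inr] at h1
    rw [eq_neg_of_add_eq_zero_left h1]
    refine neg_mem (Ideal.sum_mem _ fun l _ => Ideal.mul_mem_right _ _ ?_)
    exact hb ▸ Submodule.subset_span (Set.mem_range_self l))
  have h : ∑ j, e j • Z j = ∑ q, (∑ j, e j * c (Sum.inl j) q) • y q := by
    simp only [Finset.sum_smul]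
    rw [Finset.sum_comm]
    refine Finset.sum_congr rfl fun j _ => ?_
    rw [show Z j = _ from hy (Sum.inl j), Finset.smul_sum]
    exact Finset.sum_congr rfl fun q _ => smul_smul _ _ _
  rw [h]
  exact Submodule.sum_mem _ fun q _ => Submodule.smul_mem_smul (hmem q) trivial

end Groth.Agent.NFlatFormalH7
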